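import Groth.Agent.CohProp4.Glue

/-! The glued section at a finite stage and its agreement locus. -/

universe u

open CategoryTheory CategoryTheory.Limits AlgebraicGeometry Opposite

set_option autoImplicit false
set_option backward.isDefEq.respectTransparency false
set_option backward.isDefEq.respectTransparency.types false

namespace Groth.Agent.CohProp4

variable {S X V T SK : Scheme.{u}} (f : X ⟶ S) (V₀ : S.Etale) (iL : SK ⟶ V₀.left) (κ : SK ⟶ S)
  (hiL : iL ≫ V₀.hom = κ) {v : V ⟶ S} {F : EtDesc.Sh X} (D : Datum f v F)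
  (τ : T ⟶ SK) (jT : T ⟶ V) (hjT : jT ≫ v = τ ≫ κ) [GeometricallyConnected τ]

theorem exists_glued (hsurj : Surjective (τ ≫ iL)) {μ : Type u} (U : μ → X.Etale)
    (σU : ∀ i, EtDesc.sect F (U i)) (O : ∀ i, (PB f (U i) V₀.hom).Opens)
    (hO : ∀ i z, piG f V₀ iL κ hiL (U i) z ∈ O i →
      z ∈ pullback.fst (pullback.snd ((U i).hom ≫ f) κ) τ '' (toV f κ τ jT hjT (U i) ⁻¹' D.ag (σU i)))
    (hcov : ∀ z : ((EtCoh.bc f).obj V₀).left,
      ∃ (i : μ) (b : (piece f V₀ (U i) (O i)).left), (pieceX f V₀ (U i) (O i)).left b = z) :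
    ∃ σ : EtDesc.sect F ((EtCoh.bc f).obj V₀),
      ∀ (r : ↥(PB f ((EtCoh.bc f).obj V₀) v)) (t : T),
        prV f v V₀ r = pullback.lift (τ ≫ iL) jT (by rw [Category.assoc, hiL, hjT]) t → r ∈ D.ag σ := by
  have hbs : ∀ i, (piece f V₀ (U i) (O i)).hom ≫ f =
      ((O i).ι ≫ pullback.snd _ _) ≫ V₀.hom := fun i => by
    change (((O i).ι ≫ pullback.fst _ _) ≫ (U i).hom) ≫ f = _
    simp only [Category.assoc]
    rw [pullback.condition]
  obtain ⟨σ, hσ⟩ := exists_glue F (fun i => piece f V₀ (U i) (O i)) (fun i => pieceX f V₀ (U i) (O i)) hcov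
    (fun i => F.obj.map (pieceU f V₀ (U i) (O i)).op (σU i)) fun i j Z gi gj hg z => by
      have hl : gi.left ≫ (pieceX f V₀ (U i) (O i)).left = gj.left ≫ (pieceX f V₀ (U j) (O j)).left :=
        congrArg (fun m : Z ⟶ (EtCoh.bc f).obj V₀ => m.left) hg
      let ζ := gi.left ≫ (O i).ι ≫ pullback.snd ((U i).hom ≫ f) V₀.hom
      have hζ : gj.left ≫ (O j).ι ≫ pullback.snd _ _ = ζ := by
        simp only [ζ]
        rw [← pieceX_fst, ← pieceX_fst, ← Category.assoc, ← hl, Category.assoc]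
      have hb : Z.hom ≫ f = ζ ≫ V₀.hom := by
        rw [← MorphismProperty.Over.w gi]
        simp only [Category.assoc, ζ]
        rw [hbs, Category.assoc]
      obtain ⟨w, hw⟩ := hsurj.surj (ζ z)
      obtain ⟨q, hq, -⟩ := Scheme.Pullback.exists_preimage_pullback (f := ζ) (g := τ ≫ iL) z w hw.symm
      let p := toZ f V₀ iL κ hiL τ jT hjT Z.hom ζ hb q
      have hz : pullback.fst (Z.hom ≫ f) v p = z := by
        rw [← Scheme.Hom.comp_apply, toZ_fst]
        exact hq
      rw [← hz]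
      refine D.eq_of_mem _ _ _ ?_ ?_
      · rw [D.mem_map_iff, D.mem_map_iff, ← Scheme.Hom.comp_apply, ← mapU_comp]
        exact mem_ag_toZ f V₀ iL κ hiL D τ jT hjT (σU i) (O i) (hO i) gi ζ rfl hb q
      · rw [D.mem_map_iff, D.mem_map_iff, ← Scheme.Hom.comp_apply, ← mapU_comp]
        exact mem_ag_toZ f V₀ iL κ hiL D τ jT hjT (σU j) (O j) (hO j) gj ζ hζ hb q
  refine ⟨σ, fun r t hrt => ?_⟩
  let ηT : T ⟶ pullback V₀.hom v := pullback.lift (τ ≫ iL) jT (by rw [Category.assoc, hiL, hjT])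
  obtain ⟨q₁, hq11, -⟩ := Scheme.Pullback.exists_preimage_pullback (f := prV f v V₀) (g := ηT) r t hrt
  obtain ⟨j, bj, hbj⟩ := hcov (pullback.fst (((EtCoh.bc f).obj V₀).hom ≫ f) v r)
  let Bj := piece f V₀ (U j) (O j)
  let aj := pieceX f V₀ (U j) (O j)
  obtain ⟨r', hr', -⟩ := exists_mapU_eq f v aj r bj hbj
  obtain ⟨g, hg1, -⟩ := Scheme.Pullback.exists_preimage_pullback
    (f := mapU f v aj) (g := pullback.fst (prV f v V₀) ηT) r' q₁ (hr'.trans hq11.symm)
  let ζ := (O j).ι ≫ pullback.snd ((U j).hom ≫ f) V₀.hom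
  have e0 : aj.left ≫ pullback.fst V₀.hom f = ζ := pieceX_fst f V₀ (U j) (O j)
  let A := pullback.fst (mapU f v aj) (pullback.fst (prV f v V₀) ηT)
  let B := pullback.snd (mapU f v aj) (pullback.fst (prV f v V₀) ηT)
  have hAB : A ≫ mapU f v aj = B ≫ pullback.fst (prV f v V₀) ηT := pullback.condition
  have hAπ : A ≫ mapU f v aj ≫ prV f v V₀ = (B ≫ pullback.snd (prV f v V₀) ηT) ≫ ηT := by
    rw [← Category.assoc, hAB, Category.assoc, pullback.condition, Category.assoc]
  let c : pullback (mapU f v aj) (pullback.fst (prV f v V₀) ηT) ⟶ pullback ζ (τ ≫ iL) :=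
    pullback.lift (A ≫ pullback.fst (Bj.hom ≫ f) v) (B ≫ pullback.snd _ _) (by
      have := congrArg (· ≫ pullback.fst V₀.hom v) hAπ
      simp only [Category.assoc, ηT] at this
      rw [pullback.lift_fst] at this
      rw [Category.assoc, Category.assoc, ← this, ← e0, ← Category.assoc (pullback.fst (Bj.hom ≫ f) v),
        ← mapU_fst f v aj, prV_fst, Category.assoc])
  have e : c ≫ toZ f V₀ iL κ hiL τ jT hjT Bj.hom ζ (hbs j) = A := by
    apply pullback.hom_ext
    · rw [Category.assoc, toZ_fst, pullback.lift_fst]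
    · rw [Category.assoc, toZ_snd, pullback.lift_snd_assoc]
      have := congrArg (· ≫ pullback.snd V₀.hom v) hAπ
      simp only [Category.assoc, ηT] at this
      rw [pullback.lift_snd, prV_snd, mapU_snd] at this
      rw [this, Category.assoc]
  have hk := mem_ag_toZ f V₀ iL κ hiL D τ jT hjT (σU j) (O j) (hO j) (𝟙 Bj) ζ (Category.id_comp _)
    (hbs j) (c g)
  rw [← Scheme.Hom.comp_apply c, e, Category.id_comp] at hk
  rw [← hg1] at hr'
  rw [← hr', ← D.mem_map_iff, hσ j, D.mem_map_iff]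
  exact hk

end Groth.Agent.CohProp4
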