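import Groth.Agent.CohProp4.Pieces
import Groth.Agent.CohProp4.GlueMain
import Groth.Agent.Spec91.Basic
import Mathlib.AlgebraicGeometry.IdealSheaf.Subscheme
import Mathlib.FieldTheory.SeparableClosure

/-! Descent of agreement data to a finite separable extension. -/

universe u

open CategoryTheory CategoryTheory.Limits AlgebraicGeometry Opposite

set_option autoImplicit false
set_option backward.isDefEq.respectTransparency false
set_option backward.isDefEq.respectTransparency.types false

namespace Groth.Agent.CohProp4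

/-- The connected component of a point as a closed subscheme is geometrically connected over a separably closed field. -/
theorem exists_component {V : Scheme.{u}} {K : Type u} [Field K] [IsSepClosed K]
    (p : V ⟶ Spec (CommRingCat.of K)) (c₀ : V) :
    ∃ (T : Scheme.{u}) (ι : T ⟶ V), GeometricallyConnected (ι ≫ p) ∧ Set.range ι = connectedComponent c₀ := by
  let Z : TopologicalSpace.Closeds V := ⟨connectedComponent c₀, isClosed_connectedComponent⟩
  let I := Scheme.IdealSheafData.vanishingIdeal Z
  have hr : Set.range I.subschemeι = connectedComponent c₀ := by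
    rw [Scheme.IdealSheafData.range_subschemeι, Scheme.IdealSheafData.coe_support_vanishingIdeal]
    rfl
  refine ⟨I.subscheme, I.subschemeι, ?_, hr⟩
  have hc : ConnectedSpace I.subscheme := by
    have hp : _root_.IsPreconnected (Set.univ : Set I.subscheme) :=
      (I.subschemeι.isEmbedding.isInducing.isPreconnected_image).1
        (by rw [Set.image_univ, hr]; exact isPreconnected_connectedComponent)
    obtain ⟨x, -⟩ : c₀ ∈ Set.range I.subschemeι := hr ▸ mem_connectedComponent
    exact connectedSpace_iff_univ.2 ⟨⟨x, trivial⟩, hp⟩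
  have : IsIso (Spec.map (CommRingCat.ofHom (RingHom.id K))) := by
    rw [CommRingCat.ofHom_id, Spec.map_id]; infer_instance
  have : ConnectedSpace ↥(pullback (I.subschemeι ≫ p) (Spec.map (CommRingCat.ofHom (RingHom.id K)))) :=
    ((Scheme.homeoOfIso (asIso (pullback.fst (I.subschemeι ≫ p)
      (Spec.map (CommRingCat.ofHom (RingHom.id K)))))).symm.surjective).connectedSpace
        (Scheme.homeoOfIso (asIso (pullback.fst (I.subschemeι ≫ p)
      (Spec.map (CommRingCat.ofHom (RingHom.id K)))))).symm.continuous
  exact FBase64.geometricallyConnected_of_sepClosed _ (RingHom.id K)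

variable {k : Type u} [Field k] {X : Scheme.{u}} (f : X ⟶ Spec (CommRingCat.of k))
  {V : Scheme.{u}} {v : V ⟶ Spec (CommRingCat.of k)} {F : EtDesc.Sh X}

/-- The stage of a finite separable extension, as an etale scheme. -/
noncomputable abbrev stage {K : Type u} [Field K] [Algebra k K] [Algebra.IsSeparable k K]
    (M : IntermediateField k K) [FiniteDimensional k M] : (Spec (CommRingCat.of k)).Etale :=
  have : Etale (rhoOf k M) := etale_rhoOf M
  Scheme.Etale.mk (rhoOf k M)

theorem exists_descent [QuasiCompact f] [IsAffine V] (D : Datum f v F) (v₀ : V) :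
    ∃ (V₀ : (Spec (CommRingCat.of k)).Etale) (σ : EtDesc.sect F ((EtCoh.bc f).obj V₀))
      (W : (pullback V₀.hom v).Opens),
      (∃ w ∈ W, pullback.snd V₀.hom v w = v₀) ∧
      ∀ p : ↥(PB f ((EtCoh.bc f).obj V₀) v), prV f v V₀ p ∈ W → p ∈ D.ag σ := by
  let K := SeparableClosure k
  let κ := rhoOf k K
  obtain ⟨c₀, hc₀⟩ := (pullback.fst v κ).surjective v₀
  obtain ⟨T, ιT, hT, hrange⟩ := exists_component (pullback.snd v κ) c₀
  let τ := ιT ≫ pullback.snd v κ
  let jT := ιT ≫ pullback.fst v κ
  have hjT : jT ≫ v = τ ≫ κ := by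
    simp only [jT, τ, Category.assoc, pullback.condition]
  have : GeometricallyConnected τ := hT
  choose U σU u₀ hu₀ hx using exists_locK f D τ jT hjT
  choose Dop L hLfin huD hDB hDd using fun x =>
    exists_descend ((U x).hom ≫ f) (locK f D τ jT hjT (σU x)) (isOpen_locK f D τ jT hjT (σU x)) (u₀ x) (hu₀ x)
  have : CompactSpace X := QuasiCompact.compactSpace_of_compactSpace f
  have : CompactSpace ↥(pullback f κ) := QuasiCompact.compactSpace_of_compactSpace (pullback.snd f κ)
  have hDopen : ∀ x, IsOpen (Dop x) := fun x => by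
    obtain ⟨B', hB', e⟩ := hDd x (L x) le_rfl
    exact e ▸ hB'.preimage (piL _ _).continuous
  obtain ⟨t, ht⟩ := isCompact_univ.elim_finite_subcover
    (fun x => toX f κ (U x) '' Dop x) (fun x => (toX f κ (U x)).isOpenMap _ (hDopen x))
    (fun x _ => Set.mem_iUnion.2 ⟨x, u₀ x, huD x, hx x⟩)
  let M : IntermediateField k K := t.sup L
  have hMfin : FiniteDimensional k M := by
    classical
    refine Finset.sup_induction (p := fun E : IntermediateField k K => FiniteDimensional k E) ?_ ?_ fun x _ => hLfin x
    · infer_instance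
    · intro E hE E' hE'
      exact IntermediateField.finiteDimensional_sup E E'
  let V₀ := stage M
  let iL : Spec (CommRingCat.of K) ⟶ V₀.left := rhoOf M K
  have hiL : iL ≫ V₀.hom = κ := inclK_comp M
  have hsurj : Surjective (τ ≫ iL) := inferInstanceAs (Surjective (τ ≫ rhoOf M K))
  choose B' hB'open hB'D using fun x : t => hDd x.1 M (Finset.le_sup x.2)
  let O (x : t) : (PB f (U x.1) V₀.hom).Opens := ⟨B' x, hB'open x⟩
  have hO : ∀ (x : t) z, piG f V₀ iL κ hiL (U x.1) z ∈ O x →
      z ∈ locK f D τ jT hjT (σU x.1) := fun x z hz => hDB x.1 ((hB'D x).le hz)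
  have hcov : ∀ z : ((EtCoh.bc f).obj V₀).left,
      ∃ (i : t) (b : (piece f V₀ (U i.1) (O i)).left), (pieceX f V₀ (U i.1) (O i)).left b = z := fun z => by
    obtain ⟨w, hw⟩ := (rhoOf M K).surjective (pullback.fst V₀.hom f z)
    obtain ⟨q, hq, -⟩ := Scheme.Pullback.exists_preimage_pullback
      (f := pullback.fst V₀.hom f) (g := iL) z w hw.symm
    let π' : pullback (pullback.fst V₀.hom f) iL ⟶ pullback f κ :=
      pullback.lift (pullback.fst _ _ ≫ pullback.snd _ _) (pullback.snd _ _) (by
        rw [Category.assoc, ← pullback.condition (f := V₀.hom) (g := f), pullback.condition_assoc, hiL])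
    obtain ⟨x, hxt, y, hy, hyq⟩ := Set.mem_iUnion₂.1 (ht (Set.mem_univ (π' q)))
    let x' : t := ⟨x, hxt⟩
    have hy' : piG f V₀ iL κ hiL (U x) y ∈ O x' := (hB'D x').ge hy
    obtain ⟨g, hg1, hg2⟩ := Scheme.Pullback.exists_preimage_pullback (f := toX f κ (U x)) (g := π') y q hyq
    refine ⟨x', (⟨_, hy'⟩ : (O x').toScheme), ?_⟩
    have e : (pullback.fst _ π' ≫ piG f V₀ iL κ hiL (U x)) ≫
        pullback.lift (pullback.snd _ _) (pullback.fst _ _ ≫ (U x).hom) (by
          rw [Category.assoc, ← pullback.condition]) =
        pullback.snd (toX f κ (U x)) π' ≫ pullback.fst (pullback.fst V₀.hom f) iL := by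
      apply pullback.hom_ext
      · rw [Category.assoc, Category.assoc, pullback.lift_fst, piG_snd, ← toX_snd f κ (U x),
          Category.assoc, ← Category.assoc (pullback.fst _ π'), pullback.condition]
        simp only [Category.assoc, π', pullback.lift_snd_assoc]
        exact congrArg (pullback.snd (toX f κ (U x)) _ ≫ ·) (pullback.condition (f := pullback.fst V₀.hom f) (g := iL)).symm
      · rw [Category.assoc, Category.assoc, pullback.lift_snd, ← Category.assoc (piG f V₀ iL κ hiL (U x)),
          piG_fst, ← toX_fst, pullback.condition_assoc]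
        simp only [Category.assoc, π', pullback.lift_fst]
    have e' : (pieceX f V₀ (U x) (O x')).left = (O x').ι ≫
        pullback.lift (pullback.snd _ _) (pullback.fst _ _ ≫ (U x).hom) (by
          rw [Category.assoc, ← pullback.condition]) := by
      apply pullback.hom_ext
      · rw [pieceX_fst, Category.assoc, pullback.lift_fst]
      · rw [pieceX_snd, Category.assoc, pullback.lift_snd]
        rfl
    rw [e', Scheme.Hom.comp_apply]
    have h1 := congrArg (fun m : pullback (toX f κ (U x)) π' ⟶ ((EtCoh.bc f).obj V₀).left => m g) e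
    simp only [Scheme.Hom.comp_apply, hg2, hg1] at h1
    exact h1.trans hq
  obtain ⟨σ, hσ⟩ := exists_glued f V₀ iL κ hiL D τ jT hjT hsurj (fun x : t => U x.1) (fun x => σU x.1) O hO hcov
  let η : pullback v κ ⟶ pullback V₀.hom v :=
    pullback.lift (pullback.snd _ _ ≫ iL) (pullback.fst _ _) (by
      rw [Category.assoc, hiL, pullback.condition])
  have : UniversallyOpen η := by
    have e : η = (pullbackSymmetry v κ).hom ≫
        pullback.map κ v V₀.hom v iL (𝟙 _) (𝟙 _) (by rw [hiL, Category.comp_id]) (by simp) := by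
      apply pullback.hom_ext
      · rw [pullback.lift_fst, Category.assoc]
        erw [pullback.lift_fst]
        rw [pullbackSymmetry_hom_comp_fst_assoc]
      · rw [pullback.lift_snd, Category.assoc]
        erw [pullback.lift_snd]
        rw [Category.comp_id, pullbackSymmetry_hom_comp_snd]
    have : UniversallyOpen (pullback.map κ v V₀.hom v iL (𝟙 _) (𝟙 _)
        (by rw [hiL, Category.comp_id]) (by simp)) :=
      MorphismProperty.pullbackMap (P := @UniversallyOpen) (inferInstanceAs (UniversallyOpen (rhoOf M K)))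
        (inferInstance : UniversallyOpen (𝟙 _)) hiL.symm (by simp)
    rw [e]
    infer_instance
  let π := prV f v V₀
  have : IsAffine V₀.left := inferInstanceAs (IsAffine (Spec _))
  have : IsAffineHom V₀.hom := inferInstanceAs (IsAffineHom (rhoOf k M))
  have : IsAffine (pullback V₀.hom v) := isAffine_of_isAffineHom (pullback.snd V₀.hom v)
  have : IsAffine (pullback v κ) := inferInstance
  have : QuasiCompact V₀.hom := inferInstanceAs (QuasiCompact (rhoOf k M))
  have : QuasiCompact (((EtCoh.bc f).obj V₀).hom ≫ f) := by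
    have h := pullback.condition (f := V₀.hom) (g := f)
    exact h ▸ (inferInstance : QuasiCompact (pullback.fst V₀.hom f ≫ V₀.hom))
  have : CompactSpace ↥(PB f ((EtCoh.bc f).obj V₀) v) :=
    QuasiCompact.compactSpace_of_compactSpace (pullback.snd (((EtCoh.bc f).obj V₀).hom ≫ f) v)
  have : CompactSpace ↥(pullback π η) := QuasiCompact.compactSpace_of_compactSpace (pullback.fst π η)
  let bad : Set ↥(pullback v κ) := pullback.snd π η '' (pullback.fst π η ⁻¹' (D.ag σ)ᶜ)
  have hbad : IsCompact bad :=
    ((D.isOpen_ag σ).isClosed_compl.preimage (pullback.fst π η).continuous).isCompact.image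
      (pullback.snd π η).continuous
  have hdisj : Disjoint bad (connectedComponent c₀) := by
    rw [Set.disjoint_left]
    rintro w ⟨p, hp, rfl⟩ hC
    rw [← hrange] at hC
    obtain ⟨t', ht'⟩ := hC
    apply hp
    refine hσ (pullback.fst π η p) t' ?_
    have e : ιT ≫ η = pullback.lift (τ ≫ iL) jT (by rw [Category.assoc, hiL, hjT]) := by
      apply pullback.hom_ext
      · rw [Category.assoc, pullback.lift_fst, pullback.lift_fst, Category.assoc]
      · rw [Category.assoc, pullback.lift_snd, pullback.lift_snd]
    rw [← e, Scheme.Hom.comp_apply, ht', ← Scheme.Hom.comp_apply, ← Scheme.Hom.comp_apply,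
      pullback.condition]
  obtain ⟨W', hW', hcW', hd⟩ := Spec91.exists_isClopen_disjoint c₀ hbad (by
    rw [← Spec91.connectedComponent_eq_iInter]; exact hdisj)
  refine ⟨V₀, σ, ⟨η '' W', η.isOpenMap _ hW'.2⟩, ⟨η c₀, ⟨c₀, hcW', rfl⟩, ?_⟩, ?_⟩
  · rw [← Scheme.Hom.comp_apply, pullback.lift_snd]
    exact hc₀
  · rintro p ⟨w, hw, hwp⟩
    by_contra hp
    obtain ⟨q, hq1, hq2⟩ := Scheme.Pullback.exists_preimage_pullback (f := π) (g := η) p w hwp.symm
    refine hd.le_bot ⟨⟨q, ?_, hq2⟩, hw⟩
    rw [Set.mem_preimage, hq1]
    exact hp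

end Groth.Agent.CohProp4
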