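import Groth.Agent.CohProp4.PB
import Groth.Agent.FBase64.Geometric
import Mathlib.AlgebraicGeometry.Geometrically.Connected
import Mathlib.AlgebraicGeometry.Morphisms.QuasiFinite
import Mathlib.Topology.DiscreteSubset
import Groth.Agent.Unr55.UnrQF

/-! Agreement loci are unions of geometrically connected fibres. -/

universe u

open CategoryTheory CategoryTheory.Limits AlgebraicGeometry Opposite

set_option autoImplicit false
set_option backward.isDefEq.respectTransparency.types false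

namespace Groth.Agent.CohProp4

variable {S X V SK T : Scheme.{u}} (f : X ⟶ S) {v : V ⟶ S} {F : EtDesc.Sh X} (D : Datum f v F)
  (κ : SK ⟶ S) (τ : T ⟶ SK) (jT : T ⟶ V) (hjT : jT ≫ v = τ ≫ κ)

/-- The comparison map to the base change along `v`. -/
noncomputable def toV (U : X.Etale) : pullback (pullback.snd (U.hom ≫ f) κ) τ ⟶ PB f U v :=
  pullback.lift (pullback.fst _ _ ≫ pullback.fst _ _) (pullback.snd _ _ ≫ jT) (by
    rw [Category.assoc, Category.assoc, hjT, pullback.condition, pullback.condition_assoc])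

theorem toV_fst (U : X.Etale) :
    toV f κ τ jT hjT U ≫ pullback.fst _ _ = pullback.fst _ _ ≫ pullback.fst _ _ := pullback.lift_fst _ _ _

theorem toV_snd (U : X.Etale) :
    toV f κ τ jT hjT U ≫ pullback.snd _ _ = pullback.snd _ _ ≫ jT := pullback.lift_snd _ _ _

theorem ag_iff_of_fst_eq [GeometricallyConnected τ] {U : X.Etale} (σ : EtDesc.sect F U)
    (q q' : ↥(pullback (pullback.snd (U.hom ≫ f) κ) τ))
    (h : pullback.fst (pullback.snd (U.hom ≫ f) κ) τ q = pullback.fst (pullback.snd (U.hom ≫ f) κ) τ q') :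
    toV f κ τ jT hjT U q ∈ D.ag σ ↔ toV f κ τ jT hjT U q' ∈ D.ag σ := by
  let φ := toV f κ τ jT hjT U
  let qq := pullback.fst (pullback.snd (U.hom ≫ f) κ) τ
  let s : Set ↥(pullback (pullback.snd (U.hom ≫ f) κ) τ) := qq ⁻¹' {qq q}
  have hs : _root_.IsPreconnected s := (qq.isConnected_preimage_singleton (qq q)).isPreconnected
  have : PreconnectedSpace s := Subtype.preconnectedSpace hs
  let P : s → Prop := fun p => φ p.1 ∈ D.ag σ
  have hP : IsLocallyConstant P := by
    rw [IsLocallyConstant.iff_exists_open]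
    rintro ⟨p, hp⟩
    obtain ⟨U₂, τ₂, p₂, hp₂, hpX⟩ := D.cover (toX f v U (φ p))
    obtain ⟨r, hr1, hr2⟩ := exists_pair f v U U₂ (φ p) p₂ hpX.symm
    let W := prodEt U U₂
    let g₁ := prodFst U U₂
    let g₂ := prodSnd U U₂
    obtain ⟨n, hn1, hn2⟩ := Scheme.Pullback.exists_preimage_pullback (f := φ)
      (g := mapU f v g₁) p r hr1.symm
    let nT := pullback.fst φ (mapU f v g₁)
    let nW := pullback.snd φ (mapU f v g₁)
    have hcn : nT ≫ φ = nW ≫ mapU f v g₁ := pullback.condition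
    let e : pullback φ (mapU f v g₁) ⟶ PB f W κ :=
      pullback.lift (nW ≫ pullback.fst _ _) (nT ≫ qq ≫ pullback.snd _ _) (by
        have e1 : nW ≫ pullback.snd (W.hom ≫ f) v = (nT ≫ pullback.snd _ τ) ≫ jT := by
          rw [← mapU_snd f v g₁, ← Category.assoc, ← hcn, Category.assoc, toV_snd, Category.assoc]
        rw [Category.assoc, pullback.condition, ← Category.assoc, e1]
        simp only [Category.assoc, qq]
        rw [hjT, ← pullback.condition_assoc])
    have he : e ≫ mapU f κ g₁ = nT ≫ qq := by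
      apply pullback.hom_ext
      · rw [Category.assoc, mapU_fst, pullback.lift_fst_assoc, Category.assoc nW, ← mapU_fst f v g₁,
          ← Category.assoc nW, ← hcn, Category.assoc, toV_fst, Category.assoc]
      · rw [Category.assoc, mapU_snd, pullback.lift_snd, Category.assoc]
    have : LocallyQuasiFinite (mapU f κ g₁) := Unr55.locallyQuasiFinite_of_formallyUnramified _
    have hd : _root_.IsDiscrete ((mapU f κ g₁) ⁻¹' {qq q}) :=
      (mapU f κ g₁).isDiscrete_preimage_singleton (qq q)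
    have hen : e n ∈ (mapU f κ g₁) ⁻¹' {qq q} := by
      rw [Set.mem_preimage, Set.mem_singleton_iff, ← Scheme.Hom.comp_apply, he, Scheme.Hom.comp_apply,
        hn1]
      exact hp
    obtain ⟨Ow, hOw, hOw'⟩ := isDiscrete_iff_forall_mem_exists_isOpen.1 hd _ hen
    let τW := F.obj.map g₂.op τ₂
    let O : Set ↥(pullback (pullback.snd (U.hom ≫ f) κ) τ) := nT '' (e ⁻¹' Ow ∩ nW ⁻¹' D.ag τW)
    have hO : IsOpen O := nT.isOpenMap _
      ((hOw.preimage e.continuous).inter ((D.isOpen_ag τW).preimage nW.continuous))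
    have hmem : ∀ n', nT n' ∈ s → e n' ∈ Ow → nW n' ∈ D.ag τW →
        (φ (nT n') ∈ D.ag σ ↔ pullback.fst (W.hom ≫ f) κ (e n) ∈ eqLoc F (F.obj.map g₁.op σ) τW) := by
      intro n' h1 h2 h3
      have h4 : e n' = e n := by
        have : e n' ∈ Ow ∩ (mapU f κ g₁) ⁻¹' {qq q} := by
          refine ⟨h2, ?_⟩
          rw [Set.mem_preimage, Set.mem_singleton_iff, ← Scheme.Hom.comp_apply, he, Scheme.Hom.comp_apply]
          exact h1
        rwa [hOw', Set.mem_singleton_iff] at this
      have h5 : pullback.fst (W.hom ≫ f) κ (e n) = pullback.fst (W.hom ≫ f) v (nW n') := by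
        rw [← h4, ← Scheme.Hom.comp_apply, pullback.lift_fst, Scheme.Hom.comp_apply]
      rw [← Scheme.Hom.comp_apply nT φ, hcn, Scheme.Hom.comp_apply, ← D.mem_map_iff, h5]
      exact ⟨fun h6 => D.eq_of_mem _ _ _ h6 h3, fun h6 => D.mem_of_eq _ _ _ (eqLoc_symm F h6) h3⟩
    have hnO : p ∈ O := ⟨n, ⟨by
      have : e n ∈ Ow ∩ (mapU f κ g₁) ⁻¹' {qq q} := by rw [hOw']; rfl
      exact this.1, by
      rw [Set.mem_preimage, hn2, D.mem_map_iff, hr2]; exact hp₂⟩, hn1⟩
    refine ⟨Subtype.val ⁻¹' O, hO.preimage continuous_subtype_val, hnO, ?_⟩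
    rintro ⟨p', hp'⟩ ⟨n', ⟨hn'1, hn'2⟩, hn'3⟩
    obtain ⟨n₀, ⟨hn₀1, hn₀2⟩, hn₀3⟩ := hnO
    refine propext ?_
    change φ p' ∈ D.ag σ ↔ φ p ∈ D.ag σ
    simp only at hn'3
    subst hn'3
    subst hn₀3
    rw [hmem n' hp' hn'1 hn'2, hmem n₀ hp hn₀1 hn₀2]
  exact Iff.of_eq (hP.apply_eq_of_preconnectedSpace ⟨q, rfl⟩ ⟨q', h.symm⟩)

end Groth.Agent.CohProp4
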