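import Groth.Agent.CohProp4.Fibre

/-! Gluing agreement data at a finite stage. -/

universe u

open CategoryTheory CategoryTheory.Limits AlgebraicGeometry Opposite

set_option autoImplicit false
set_option backward.isDefEq.respectTransparency.types false

namespace Groth.Agent.CohProp4

variable {S X : Scheme.{u}} (f : X ⟶ S)

/-- The projection of the base change of an object of the form `bc f V₀`. -/
noncomputable def prV {V : Scheme.{u}} (v : V ⟶ S) (V₀ : S.Etale) :
    PB f ((EtCoh.bc f).obj V₀) v ⟶ pullback V₀.hom v :=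
  pullback.lift (pullback.fst _ _ ≫ pullback.fst V₀.hom f) (pullback.snd _ _)
    (((Category.assoc _ _ _).trans (congrArg (pullback.fst _ _ ≫ ·) (pullback.condition (f := V₀.hom) (g := f)))).trans
      pullback.condition)

theorem prV_fst {V : Scheme.{u}} (v : V ⟶ S) (V₀ : S.Etale) :
    prV f v V₀ ≫ pullback.fst _ _ = pullback.fst _ _ ≫ pullback.fst V₀.hom f := pullback.lift_fst _ _ _

theorem prV_snd {V : Scheme.{u}} (v : V ⟶ S) (V₀ : S.Etale) :
    prV f v V₀ ≫ pullback.snd _ _ = pullback.snd _ _ := pullback.lift_snd _ _ _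

variable (V₀ : S.Etale) {SK : Scheme.{u}} (iL : SK ⟶ V₀.left) (κ : SK ⟶ S) (hiL : iL ≫ V₀.hom = κ)

/-- The projection to a finite stage. -/
noncomputable def piG (U : X.Etale) : PB f U κ ⟶ PB f U V₀.hom :=
  pullback.lift (pullback.fst _ _) (pullback.snd _ _ ≫ iL) (by
    rw [Category.assoc, hiL, pullback.condition])

theorem piG_fst (U : X.Etale) : piG f V₀ iL κ hiL U ≫ pullback.fst _ _ = pullback.fst _ _ :=
  pullback.lift_fst _ _ _

theorem piG_snd (U : X.Etale) : piG f V₀ iL κ hiL U ≫ pullback.snd _ _ = pullback.snd _ _ ≫ iL :=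
  pullback.lift_snd _ _ _

/-- A piece over a finite stage. -/
noncomputable def piece (U : X.Etale) (O : (PB f U V₀.hom).Opens) : X.Etale :=
  have : Etale U.hom := U.prop
  have : Etale V₀.hom := V₀.prop
  Scheme.Etale.mk ((O.ι ≫ pullback.fst (U.hom ≫ f) V₀.hom) ≫ U.hom)

/-- The projection of a piece to the etale scheme. -/
noncomputable def pieceU (U : X.Etale) (O : (PB f U V₀.hom).Opens) : piece f V₀ U O ⟶ U :=
  MorphismProperty.Over.homMk (O.ι ≫ pullback.fst _ _) rfl trivial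

/-- The projection of a piece to the base change of the finite stage. -/
noncomputable def pieceX (U : X.Etale) (O : (PB f U V₀.hom).Opens) :
    piece f V₀ U O ⟶ (EtCoh.bc f).obj V₀ :=
  MorphismProperty.Over.homMk
    (pullback.lift (O.ι ≫ pullback.snd _ _) ((O.ι ≫ pullback.fst _ _) ≫ U.hom)
      ((Category.assoc _ _ _).trans ((congrArg (O.ι ≫ ·)
        (pullback.condition (f := U.hom ≫ f) (g := V₀.hom)).symm).trans
        (by simp only [Category.assoc]; rfl))))
    (pullback.lift_snd _ _ _) trivial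

theorem pieceX_fst (U : X.Etale) (O : (PB f U V₀.hom).Opens) :
    (pieceX f V₀ U O).left ≫ pullback.fst V₀.hom f = O.ι ≫ pullback.snd _ _ := pullback.lift_fst _ _ _

theorem pieceX_snd (U : X.Etale) (O : (PB f U V₀.hom).Opens) :
    (pieceX f V₀ U O).left ≫ pullback.snd V₀.hom f = (piece f V₀ U O).hom := pullback.lift_snd _ _ _

variable {V T : Scheme.{u}} {v : V ⟶ S} {F : EtDesc.Sh X} (D : Datum f v F)
  (τ : T ⟶ SK) (jT : T ⟶ V) (hjT : jT ≫ v = τ ≫ κ)

/-- The map from a test scheme to the base change along `v`. -/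
noncomputable def toZ {Y : Scheme.{u}} (b : Y ⟶ X) (ζ : Y ⟶ V₀.left) (hb : b ≫ f = ζ ≫ V₀.hom) :
    pullback ζ (τ ≫ iL) ⟶ pullback (b ≫ f) v :=
  pullback.lift (pullback.fst _ _) (pullback.snd _ _ ≫ jT) (by
    rw [Category.assoc, hjT, hb, pullback.condition_assoc, Category.assoc, hiL])

theorem toZ_fst {Y : Scheme.{u}} (b : Y ⟶ X) (ζ : Y ⟶ V₀.left) (hb : b ≫ f = ζ ≫ V₀.hom) :
    toZ f V₀ iL κ hiL τ jT hjT b ζ hb ≫ pullback.fst (b ≫ f) v = pullback.fst _ _ := pullback.lift_fst _ _ _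

theorem toZ_snd {Y : Scheme.{u}} (b : Y ⟶ X) (ζ : Y ⟶ V₀.left) (hb : b ≫ f = ζ ≫ V₀.hom) :
    toZ f V₀ iL κ hiL τ jT hjT b ζ hb ≫ pullback.snd (b ≫ f) v = pullback.snd _ _ ≫ jT :=
  pullback.lift_snd _ _ _

theorem mem_ag_toZ [GeometricallyConnected τ] {U : X.Etale} (σ : EtDesc.sect F U) (O : (PB f U V₀.hom).Opens)
    (hO : ∀ z, piG f V₀ iL κ hiL U z ∈ O →
      z ∈ pullback.fst (pullback.snd (U.hom ≫ f) κ) τ '' (toV f κ τ jT hjT U ⁻¹' D.ag σ))
    {Z : X.Etale} (g : Z ⟶ piece f V₀ U O) (ζ : Z.left ⟶ V₀.left)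
    (hζ : g.left ≫ O.ι ≫ pullback.snd _ _ = ζ) (hb : Z.hom ≫ f = ζ ≫ V₀.hom)
    (q : ↥(pullback ζ (τ ≫ iL))) :
    mapU f v (g ≫ pieceU f V₀ U O) (toZ f V₀ iL κ hiL τ jT hjT Z.hom ζ hb q) ∈ D.ag σ := by
  let m := g ≫ pieceU f V₀ U O
  have hm : m.left = g.left ≫ O.ι ≫ pullback.fst _ _ := rfl
  have wm : m.left ≫ U.hom = Z.hom := MorphismProperty.Over.w m
  let u : pullback ζ (τ ≫ iL) ⟶ PB f U κ :=
    pullback.lift (pullback.fst _ _ ≫ m.left) (pullback.snd _ _ ≫ τ) (by
      rw [Category.assoc, ← Category.assoc m.left, wm, hb, pullback.condition_assoc, Category.assoc,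
        Category.assoc, hiL])
  let c : pullback ζ (τ ≫ iL) ⟶ pullback (pullback.snd (U.hom ≫ f) κ) τ :=
    pullback.lift u (pullback.snd _ _) (pullback.lift_snd _ _ _)
  have e1 : u ≫ piG f V₀ iL κ hiL U = pullback.fst _ _ ≫ g.left ≫ O.ι := by
    apply pullback.hom_ext
    · rw [Category.assoc, piG_fst, pullback.lift_fst, hm]
      simp only [Category.assoc]
    · rw [Category.assoc, piG_snd, pullback.lift_snd_assoc, Category.assoc, ← pullback.condition,
        ← hζ]
      simp only [Category.assoc]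
  have e2 : c ≫ toV f κ τ jT hjT U = toZ f V₀ iL κ hiL τ jT hjT Z.hom ζ hb ≫ mapU f v m := by
    apply pullback.hom_ext
    · rw [Category.assoc, toV_fst, pullback.lift_fst_assoc, pullback.lift_fst, Category.assoc, mapU_fst,
        ← Category.assoc (toZ f V₀ iL κ hiL τ jT hjT Z.hom ζ hb), toZ_fst]
    · rw [Category.assoc, toV_snd, pullback.lift_snd_assoc, Category.assoc, mapU_snd, toZ_snd]
  rw [← Scheme.Hom.comp_apply, ← e2, Scheme.Hom.comp_apply]
  obtain ⟨q', hq', e⟩ := hO (pullback.fst (pullback.snd (U.hom ≫ f) κ) τ (c q)) (by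
    rw [← Scheme.Hom.comp_apply, ← Scheme.Hom.comp_apply, pullback.lift_fst_assoc, e1,
      Scheme.Hom.comp_apply, Scheme.Hom.comp_apply]
    exact (g.left (pullback.fst ζ (τ ≫ iL) q)).2)
  exact (ag_iff_of_fst_eq f D κ τ jT hjT σ q' (c q) e).1 hq'

end Groth.Agent.CohProp4
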