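import Groth.Agent.CohProp4.Pl
import Groth.Agent.Cons51.Count

/-! The locus where two sections of a sheaf of sets have equal germs. -/

universe u

open CategoryTheory CategoryTheory.Limits AlgebraicGeometry Opposite

set_option autoImplicit false
set_option backward.isDefEq.respectTransparency.types false

namespace Groth.Agent.CohProp4

open Groth.Agent.Unr55.EtSh Groth.Agent.An92.EtSets

variable {X : Scheme.{u}} (F : EtDesc.Sh X)

/-- A geometric point of an etale scheme lifts along a morphism hitting its image. -/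
theorem exists_lift_pt {V U : X.Etale} (k : V ⟶ U) {Ω : Type u} [Field Ω] [IsSepClosed Ω]
    {η : Spec (CommRingCat.of Ω) ⟶ X} (t : Pt η U) (v : V.left) (h : k.left v = hom η t default) :
    ∃ t' : Pt η V, (Scheme.pointSmallEtale η).fiber.map k t' = t ∧ hom η t' default = v := by
  obtain ⟨p, hp⟩ := Cons51.exists_pt_at
    (MorphismProperty.Over.mk ⊤ k.left (Groth.Agent.Unr55.EtSh.etale_left k) : U.left.Etale)
    (hom η t) v h
  let l : Spec (CommRingCat.of Ω) ⟶ V.left := (hom (hom η t) p :)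
  have hl : l ≫ k.left = hom η t := Over.w p
  have ht : hom η t ≫ U.hom = η := Over.w t
  have hk : k.left ≫ U.hom = V.hom := MorphismProperty.Over.w k
  exact ⟨mkPt _ l (by rw [← hk, ← Category.assoc, hl, ht]), Over.OverMorphism.ext hl, hp⟩

/-- The locus where two sections agree locally. -/
def eqLoc {U : X.Etale} (σ τ : EtDesc.sect F U) : Set U.left :=
  {x | ∃ (W : X.Etale) (g : W ⟶ U) (w : W.left), g.left w = x ∧ F.obj.map g.op σ = F.obj.map g.op τ}

theorem isOpen_eqLoc {U : X.Etale} (σ τ : EtDesc.sect F U) : IsOpen (eqLoc F σ τ) := by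
  rw [isOpen_iff_forall_mem_open]
  rintro x ⟨W, g, w, rfl, e⟩
  exact ⟨Set.range g.left, fun y ⟨v, hv⟩ => ⟨W, g, v, hv, e⟩, isOpen_range_left g, w, rfl⟩

theorem gs_eq_iff_mem {Ω : Type u} [Field Ω] [IsSepClosed Ω] (η : Spec (CommRingCat.of Ω) ⟶ X)
    {U : X.Etale} (t : Pt η U) (σ τ : EtDesc.sect F U) :
    gs η F t σ = gs η F t τ ↔ hom η t default ∈ eqLoc F σ τ := by
  constructor
  · intro e
    obtain ⟨W, g, t', h1, h2⟩ :=
      ((Scheme.pointSmallEtale η).toPresheafFiber_eq_iff' (P := F.obj) U t σ τ).1 e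
    exact ⟨W, g, hom η t' default, congrArg (fun q => hom η q default) h1, h2⟩
  · rintro ⟨W, g, w, hw, e⟩
    obtain ⟨t', h1, -⟩ := exists_lift_pt g t w hw
    exact ((Scheme.pointSmallEtale η).toPresheafFiber_eq_iff' (P := F.obj) U t σ τ).2 ⟨W, g, t', h1, e⟩

theorem mem_eqLoc_map_iff {U V : X.Etale} (g : V ⟶ U) (σ τ : EtDesc.sect F U) (y : V.left) :
    y ∈ eqLoc F (F.obj.map g.op σ) (F.obj.map g.op τ) ↔ g.left y ∈ eqLoc F σ τ := by
  obtain ⟨K, _, _, η, t, rfl⟩ := point_over V y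
  rw [← gs_eq_iff_mem, gs_map, gs_map, gs_eq_iff_mem]
  exact Iff.rfl

theorem eqLoc_self {U : X.Etale} (σ : EtDesc.sect F U) (x : U.left) : x ∈ eqLoc F σ σ :=
  ⟨U, 𝟙 U, x, rfl, rfl⟩

theorem eqLoc_symm {U : X.Etale} {σ τ : EtDesc.sect F U} {x : U.left} (h : x ∈ eqLoc F σ τ) :
    x ∈ eqLoc F τ σ := by
  obtain ⟨W, g, w, hw, e⟩ := h
  exact ⟨W, g, w, hw, e.symm⟩

theorem eqLoc_trans {U : X.Etale} {σ τ ρ : EtDesc.sect F U} {x : U.left} (h : x ∈ eqLoc F σ τ)
    (h' : x ∈ eqLoc F τ ρ) : x ∈ eqLoc F σ ρ := by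
  obtain ⟨K, _, _, η, t, rfl⟩ := point_over U x
  rw [← gs_eq_iff_mem] at h h' ⊢
  exact h.trans h'

theorem eq_of_eqLoc {U : X.Etale} {σ τ : EtDesc.sect F U} (h : ∀ x, x ∈ eqLoc F σ τ) : σ = τ :=
  EtSets93.sect_ext F σ τ fun x => by
    obtain ⟨W, g, w, hw, e⟩ := h x
    exact ⟨W, g, w, hw, e⟩

theorem mem_eqLoc_pl_iff {X' : Scheme.{u}} (h : X' ⟶ X) {U : X.Etale} (σ τ : EtDesc.sect F U)
    (z : ((EtCoh.bc h).obj U).left) :
    z ∈ eqLoc ((EtDesc.pullSh h).obj F) (pl h F σ) (pl h F τ) ↔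
      pullback.fst U.hom h z ∈ eqLoc F σ τ := by
  obtain ⟨K, _, _, η, t, rfl⟩ := point_over ((EtCoh.bc h).obj U) z
  have e : pullback.fst U.hom h (hom η t default) = hom (η ≫ h) (ptDown h η t) default := rfl
  rw [e, ← gs_eq_iff_mem, ← gs_eq_iff_mem]
  have := gs_pl_eq_iff h η F (ptDown h η t) (ptDown h η t) σ τ
  rwa [ptUp_ptDown] at this

/-- Sections on a covering family agreeing on overlaps glue. -/
theorem exists_glue {U : X.Etale} {μ : Type u} (B : μ → X.Etale) (a : ∀ j, B j ⟶ U)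
    (hcov : ∀ x : U.left, ∃ (j : μ) (b : (B j).left), (a j).left b = x) (σ : ∀ j, EtDesc.sect F (B j))
    (hag : ∀ (i j : μ) (Z : X.Etale) (gi : Z ⟶ B i) (gj : Z ⟶ B j), gi ≫ a i = gj ≫ a j →
      ∀ z, z ∈ eqLoc F (F.obj.map gi.op (σ i)) (F.obj.map gj.op (σ j))) :
    ∃ τ : EtDesc.sect F U, ∀ j, F.obj.map (a j).op τ = σ j := by
  have hS : Sieve.generate (Presieve.ofArrows _ a) ∈ X.smallEtaleTopology U := mem_topology fun x => by
    obtain ⟨j, b, hb⟩ := hcov x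
    exact ⟨_, a j, b, Sieve.le_generate _ _ _ (Presieve.ofArrows.mk j), hb⟩
  have hcomp : Presieve.Arrows.Compatible F.obj a σ := fun i j Z gi gj h =>
    eq_of_eqLoc F (hag i j Z gi gj h)
  obtain ⟨τ, hτ, -⟩ := (Presieve.isSheafFor_arrows_iff _ _).1
    ((Presieve.isSheafFor_iff_generate _).2 (((isSheaf_iff_isSheaf_of_type _ _).1 F.property) _ hS)) _ hcomp
  exact ⟨τ, hτ⟩

end Groth.Agent.CohProp4
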