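import Groth.Agent.CohProp4.PB
import Groth.Prelude.Def_EtBCD

/-! Agreement data coming from a section over a base change. -/

universe u

open CategoryTheory CategoryTheory.Limits AlgebraicGeometry Opposite

set_option autoImplicit false
set_option backward.isDefEq.respectTransparency false
set_option backward.isDefEq.respectTransparency.types false

namespace Groth.Agent.CohProp4

variable {S X X' Y' : Scheme.{u}} {f : X ⟶ S} {g : Y' ⟶ S} {f' : X' ⟶ Y'} {h : X' ⟶ X}

section

variable (f g f' h)

theorem bcSquare_fst (w : h ≫ f = f' ≫ g) (V₀ : S.Etale) :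
    (bcSquare f g f' h w V₀).left ≫ pullback.fst ((EtCoh.bc f).obj V₀).hom h ≫ pullback.fst V₀.hom f =
      pullback.fst ((EtCoh.bc g).obj V₀).hom f' ≫ pullback.fst V₀.hom g := by
  simp only [bcSquare, MorphismProperty.Over.pullbackComp, MorphismProperty.Over.pullbackCongr,
    NatIso.ofComponents_inv_app, NatIso.ofComponents_hom_app]
  change (_ ≫ _ ≫ _) ≫ _ ≫ _ = _
  simp only [MorphismProperty.Over.isoMk, Category.assoc]
  simp [pullback.congrHom_inv, pullback.congrHom_hom]
  erw [Category.id_comp, pullbackLeftPullbackSndIso_inv_fst]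
  simp only [pullback.map, pullback.lift_fst, Category.comp_id]
  exact pullbackLeftPullbackSndIso_hom_fst _ _ _

theorem bcSquare_snd (w : h ≫ f = f' ≫ g) (V₀ : S.Etale) :
    (bcSquare f g f' h w V₀).left ≫ pullback.fst ((EtCoh.bc f).obj V₀).hom h ≫ pullback.snd V₀.hom f =
      pullback.snd ((EtCoh.bc g).obj V₀).hom f' ≫ h := by
  have h1 : pullback.fst ((EtCoh.bc f).obj V₀).hom h ≫ pullback.snd V₀.hom f =
      ((EtCoh.bc h).obj ((EtCoh.bc f).obj V₀)).hom ≫ h := pullback.condition
  rw [h1, ← Category.assoc, MorphismProperty.Over.w (bcSquare f g f' h w V₀)]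
  rfl

theorem bc_map_fst {V V' : S.Etale} (a : V' ⟶ V) :
    ((EtCoh.bc f).map a).left ≫ pullback.fst V.hom f = pullback.fst V'.hom f ≫ a.left :=
  (EtCoh.isPullback_bc_map f a).w

end

variable (sq : IsPullback h f' f g) (V : Y'.Etale)

/-- The product of an etale `X`-scheme and an etale `Y'`-scheme over the base. -/
noncomputable def prodObj (U : X.Etale) : X'.Etale :=
  have : Etale (pullback.map (U.hom ≫ f) (V.hom ≫ g) f g U.hom V.hom (𝟙 S) (by simp) (by simp)) :=
    MorphismProperty.pullbackMap (U.prop : Etale U.hom) (V.prop : Etale V.hom) rfl rfl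
  Scheme.Etale.mk (pullback.map (U.hom ≫ f) (V.hom ≫ g) f g U.hom V.hom (𝟙 S) (by simp) (by simp) ≫
    sq.isoPullback.inv)

theorem prodObj_hom_fst (U : X.Etale) :
    (prodObj sq V U).hom ≫ h = pullback.fst (U.hom ≫ f) (V.hom ≫ g) ≫ U.hom := by
  change (_ ≫ sq.isoPullback.inv) ≫ h = _
  rw [Category.assoc, sq.isoPullback_inv_fst]
  exact pullback.lift_fst _ _ _

theorem prodObj_hom_snd (U : X.Etale) :
    (prodObj sq V U).hom ≫ f' = pullback.snd (U.hom ≫ f) (V.hom ≫ g) ≫ V.hom := by
  change (_ ≫ sq.isoPullback.inv) ≫ f' = _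
  rw [Category.assoc, sq.isoPullback_inv_snd]
  exact pullback.lift_snd _ _ _

/-- The projection to the base change of `V`. -/
noncomputable def pa (U : X.Etale) : prodObj sq V U ⟶ (EtCoh.bc f').obj V :=
  MorphismProperty.Over.homMk
    (pullback.lift (pullback.snd (U.hom ≫ f) (V.hom ≫ g)) (prodObj sq V U).hom (prodObj_hom_snd sq V U).symm)
    (pullback.lift_snd _ _ _) trivial

/-- The projection to the base change of `U`. -/
noncomputable def pb (U : X.Etale) : prodObj sq V U ⟶ (EtCoh.bc h).obj U :=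
  MorphismProperty.Over.homMk
    (pullback.lift (pullback.fst (U.hom ≫ f) (V.hom ≫ g)) (prodObj sq V U).hom (prodObj_hom_fst sq V U).symm)
    (pullback.lift_snd _ _ _) trivial

theorem pb_fst (U : X.Etale) :
    (pb sq V U).left ≫ pullback.fst U.hom h = pullback.fst (U.hom ≫ f) (V.hom ≫ g) := pullback.lift_fst _ _ _

theorem pa_fst (U : X.Etale) :
    (pa sq V U).left ≫ pullback.fst V.hom f' = pullback.snd (U.hom ≫ f) (V.hom ≫ g) := pullback.lift_fst _ _ _

theorem hom_ext_bc {Z : Scheme.{u}} {T : Scheme.{u}} {r : T ⟶ Z} {U : Z.Etale} {W : T.Etale}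
    {a b : W ⟶ (EtCoh.bc r).obj U} (e : a.left ≫ pullback.fst U.hom r = b.left ≫ pullback.fst U.hom r) :
    a = b :=
  MorphismProperty.Over.Hom.ext (pullback.hom_ext e
    ((MorphismProperty.Over.w a).trans (MorphismProperty.Over.w b).symm))

/-- The map to the product. -/
noncomputable def toProd {U : X.Etale} {W : X'.Etale} (a : W ⟶ (EtCoh.bc f').obj V)
    (b : W ⟶ (EtCoh.bc h).obj U) : W ⟶ prodObj sq V U :=
  MorphismProperty.Over.homMk
    (pullback.lift (b.left ≫ pullback.fst U.hom h) (a.left ≫ pullback.fst V.hom f') (by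
      have h1 : b.left ≫ pullback.snd U.hom h = W.hom := MorphismProperty.Over.w b
      have h2 : a.left ≫ pullback.snd V.hom f' = W.hom := MorphismProperty.Over.w a
      simp only [Category.assoc]
      rw [pullback.condition_assoc, pullback.condition_assoc, reassoc_of% h1, reassoc_of% h2, sq.w]))
    (by
      have h1 : b.left ≫ pullback.snd U.hom h = W.hom := MorphismProperty.Over.w b
      have h2 : a.left ≫ pullback.snd V.hom f' = W.hom := MorphismProperty.Over.w a
      apply sq.hom_ext
      · rw [Category.assoc, prodObj_hom_fst, pullback.lift_fst_assoc, Category.assoc, pullback.condition,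
          reassoc_of% h1]
      · rw [Category.assoc, prodObj_hom_snd, pullback.lift_snd_assoc, Category.assoc, pullback.condition,
          reassoc_of% h2]) trivial

theorem toProd_fst {U : X.Etale} {W : X'.Etale} (a : W ⟶ (EtCoh.bc f').obj V)
    (b : W ⟶ (EtCoh.bc h).obj U) :
    (toProd sq V a b).left ≫ pullback.fst (U.hom ≫ f) (V.hom ≫ g) = b.left ≫ pullback.fst U.hom h :=
  pullback.lift_fst _ _ _

theorem toProd_snd {U : X.Etale} {W : X'.Etale} (a : W ⟶ (EtCoh.bc f').obj V)
    (b : W ⟶ (EtCoh.bc h).obj U) :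
    (toProd sq V a b).left ≫ pullback.snd (U.hom ≫ f) (V.hom ≫ g) = a.left ≫ pullback.fst V.hom f' :=
  pullback.lift_snd _ _ _

theorem toProd_pa {U : X.Etale} {W : X'.Etale} (a : W ⟶ (EtCoh.bc f').obj V)
    (b : W ⟶ (EtCoh.bc h).obj U) : toProd sq V a b ≫ pa sq V U = a :=
  hom_ext_bc ((Category.assoc _ _ _).trans ((congrArg ((toProd sq V a b).left ≫ ·) (pa_fst sq V U)).trans
    (toProd_snd sq V a b)))

theorem toProd_pb {U : X.Etale} {W : X'.Etale} (a : W ⟶ (EtCoh.bc f').obj V)
    (b : W ⟶ (EtCoh.bc h).obj U) : toProd sq V a b ≫ pb sq V U = b :=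
  hom_ext_bc ((Category.assoc _ _ _).trans ((congrArg ((toProd sq V a b).left ≫ ·) (pb_fst sq V U)).trans
    (toProd_fst sq V a b)))

/-- Functoriality of the product. -/
noncomputable def prodMap {U U' : X.Etale} (a : U' ⟶ U) : prodObj sq V U' ⟶ prodObj sq V U :=
  MorphismProperty.Over.homMk (mapU f (V.hom ≫ g) a) (by
    apply sq.hom_ext
    · rw [Category.assoc, prodObj_hom_fst, prodObj_hom_fst, ← Category.assoc, mapU_fst, Category.assoc,
        MorphismProperty.Over.w a]
    · rw [Category.assoc, prodObj_hom_snd, prodObj_hom_snd, ← Category.assoc, mapU_snd]) trivial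

theorem prodMap_pa {U U' : X.Etale} (a : U' ⟶ U) : prodMap sq V a ≫ pa sq V U = pa sq V U' :=
  hom_ext_bc ((Category.assoc _ _ _).trans ((congrArg ((prodMap sq V a).left ≫ ·) (pa_fst sq V U)).trans
    ((mapU_snd f _ a).trans (pa_fst sq V U').symm)))

theorem prodMap_pb {U U' : X.Etale} (a : U' ⟶ U) :
    prodMap sq V a ≫ pb sq V U = pb sq V U' ≫ (EtCoh.bc h).map a :=
  hom_ext_bc ((Category.assoc _ _ _).trans ((congrArg ((prodMap sq V a).left ≫ ·) (pb_fst sq V U)).trans
    ((mapU_fst f _ a).trans (((congrArg (· ≫ a.left) (pb_fst sq V U')).symm.trans (Category.assoc _ _ _)).trans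
      ((congrArg ((pb sq V U').left ≫ ·) (bc_map_fst h a).symm).trans (Category.assoc _ _ _).symm)))))

variable {F : EtDesc.Sh X} (s : EtDesc.sect ((EtDesc.pullSh h).obj F) ((EtCoh.bc f').obj V))

/-- The agreement data of a section. -/
noncomputable def datum : Datum f (V.hom ≫ g) F where
  ag {U} σ := eqLoc ((EtDesc.pullSh h).obj F)
    (((EtDesc.pullSh h).obj F).obj.map (pa sq V U).op s)
    (((EtDesc.pullSh h).obj F).obj.map (pb sq V U).op (pl h F σ))
  isOpen_ag _ := isOpen_eqLoc _ _ _
  mem_map_iff {U U'} a σ p := by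
    rw [pl_map]
    refine Iff.trans (Iff.of_eq ?_) (mem_eqLoc_map_iff _ (prodMap sq V a) _ _ p)
    congr 2
    · rw [← ConcreteCategory.comp_apply, ← Functor.map_comp, ← op_comp, prodMap_pa]
    · rw [← ConcreteCategory.comp_apply, ← ConcreteCategory.comp_apply, ← Functor.map_comp,
        ← Functor.map_comp, ← op_comp, ← op_comp, prodMap_pb]
  eq_of_mem {U} σ τ p h1 h2 := by
    have h3 := (mem_eqLoc_map_iff _ (pb sq V U) _ _ p).1 (eqLoc_trans _ (eqLoc_symm _ h1) h2)
    rw [mem_eqLoc_pl_iff] at h3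
    rwa [show pullback.fst U.hom h ((pb sq V U).left p) = pullback.fst (U.hom ≫ f) (V.hom ≫ g) p from
      congrArg (fun q : (prodObj sq V U).left ⟶ U.left => q p) (pb_fst sq V U)] at h3
  mem_of_eq {U} σ τ p h1 h2 := by
    refine eqLoc_trans _ h2 ((mem_eqLoc_map_iff _ (pb sq V U) _ _ p).2 ?_)
    rw [mem_eqLoc_pl_iff, show pullback.fst U.hom h ((pb sq V U).left p) =
      pullback.fst (U.hom ≫ f) (V.hom ≫ g) p from
        congrArg (fun q : (prodObj sq V U).left ⟶ U.left => q p) (pb_fst sq V U)]
    exact h1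
  cover m := by
    let c : pullback f (V.hom ≫ g) ⟶ pullback V.hom f' :=
      pullback.lift (pullback.snd _ _)
        (sq.lift (pullback.fst _ _) (pullback.snd _ _ ≫ V.hom) (by rw [Category.assoc, pullback.condition]))
        (sq.lift_snd _ _ _).symm
    let e : pullback V.hom f' ⟶ pullback f (V.hom ≫ g) :=
      pullback.lift (pullback.snd _ _ ≫ h) (pullback.fst _ _) (by
        rw [Category.assoc, sq.w, pullback.condition_assoc])
    have hce : c ≫ e = 𝟙 _ := by
      apply pullback.hom_ext
      · rw [Category.assoc, pullback.lift_fst, pullback.lift_snd_assoc, sq.lift_fst, Category.id_comp]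
      · rw [Category.assoc, pullback.lift_snd, pullback.lift_fst, Category.id_comp]
    obtain ⟨W, a, w, U, b, σ, haw, hab⟩ := exists_local_pl h F s (c m)
    refine ⟨U, σ, (toProd sq V a b).left w, ?_, ?_⟩
    · rw [← mem_eqLoc_map_iff]
      rw [← ConcreteCategory.comp_apply, ← ConcreteCategory.comp_apply, ← Functor.map_comp,
        ← Functor.map_comp, ← op_comp, ← op_comp, toProd_pa, toProd_pb, hab]
      exact eqLoc_self _ _ _
    · have he : (toProd sq V a b).left ≫ toX f (V.hom ≫ g) U = a.left ≫ e := by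
        have h1 : b.left ≫ pullback.snd U.hom h = W.hom := MorphismProperty.Over.w b
        have h2 : a.left ≫ pullback.snd V.hom f' = W.hom := MorphismProperty.Over.w a
        apply pullback.hom_ext
        · rw [Category.assoc, toX_fst, ← Category.assoc, toProd_fst, Category.assoc, pullback.condition,
            reassoc_of% h1, Category.assoc, pullback.lift_fst, reassoc_of% h2]
        · rw [Category.assoc, toX_snd, toProd_snd, Category.assoc, pullback.lift_snd]
      refine (congrArg (fun q : W.left ⟶ pullback f (V.hom ≫ g) => q w) he).trans ?_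
      change e (a.left w) = m
      rw [haw]
      exact (congrArg (fun q : pullback f (V.hom ≫ g) ⟶ pullback f (V.hom ≫ g) => q m) hce)

theorem mem_datum_iff {U : X.Etale} (σ : EtDesc.sect F U) {W : X'.Etale}
    (a : W ⟶ (EtCoh.bc f').obj V) (b : W ⟶ (EtCoh.bc h).obj U) (z : W.left) :
    z ∈ eqLoc ((EtDesc.pullSh h).obj F) (((EtDesc.pullSh h).obj F).obj.map a.op s)
        (((EtDesc.pullSh h).obj F).obj.map b.op (pl h F σ)) ↔
      (toProd sq V a b).left z ∈ (datum sq V s).ag σ := by
  refine Iff.trans (Iff.of_eq ?_) (mem_eqLoc_map_iff _ (toProd sq V a b) _ _ z)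
  congr 2
  · rw [← ConcreteCategory.comp_apply, ← Functor.map_comp, ← op_comp, toProd_pa]
  · rw [← ConcreteCategory.comp_apply, ← Functor.map_comp, ← op_comp, toProd_pb]

end Groth.Agent.CohProp4
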