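import Groth.Agent.CohProp4.Descend
import Groth.Agent.CohProp4.Square

/-! Degree zero base change of sheaves of sets over a field. -/

universe u

open CategoryTheory CategoryTheory.Limits AlgebraicGeometry Opposite

set_option autoImplicit false
set_option backward.isDefEq.respectTransparency false
set_option backward.isDefEq.respectTransparency.types false

namespace Groth.Agent.CohProp4

open Groth.Agent.Unr55.EtSh Groth.Agent.An92.EtSets

variable {k : Type u} [Field k] {X X' Y' : Scheme.{u}} (f : X ⟶ Spec (CommRingCat.of k))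
  (g : Y' ⟶ Spec (CommRingCat.of k)) (f' : X' ⟶ Y') (h : X' ⟶ X) (sq : IsPullback h f' f g)
  (F : EtDesc.Sh X) {Ω : Type u} [Field Ω] [IsSepClosed Ω] (η : Spec (CommRingCat.of Ω) ⟶ Y')

theorem baseChange_gs {V₀ : (Spec (CommRingCat.of k)).Etale} (t₀ : Pt (η ≫ g) V₀)
    (σ : EtDesc.sect ((EtDesc.pushSh f).obj F) V₀) :
    (stalkSh η).map (EtBC.baseChange0Sh f g f' h sq.w F)
        (gs η _ (ptUp g η t₀) (pl g ((EtDesc.pushSh f).obj F) σ)) =
      gs η ((EtDesc.pushSh f').obj ((EtDesc.pullSh h).obj F)) (ptUp g η t₀)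
        (((EtDesc.pullSh h).obj F).obj.map (bcSquare f g f' h sq.w V₀).op
          (pl h F (U := (EtCoh.bc f).obj V₀) σ)) :=
  (gs_natural η _ _ _).trans (congrArg _ (baseChange_pl f g f' h sq.w F V₀ σ))

theorem injective_stalk :
    Function.Injective ((stalkSh η).map (EtBC.baseChange0Sh f g f' h sq.w F)) := by
  intro a b e
  obtain ⟨V₁, t₁, σ₁, rfl⟩ := exists_gs_pl g η _ a
  obtain ⟨V₂, t₂, σ₂, rfl⟩ := exists_gs_pl g η _ b
  obtain ⟨⟨V₀, t₀⟩, a₁, a₂, -⟩ := IsCofiltered.toIsCofilteredOrEmpty.cone_objs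
    (C := (Scheme.pointSmallEtale (η ≫ g)).fiber.Elements) ⟨V₁, t₁⟩ ⟨V₂, t₂⟩
  let P := (EtDesc.pushSh f).obj F
  have e₁ : gs (η ≫ g) P t₀ (P.obj.map a₁.val.op σ₁) = gs (η ≫ g) P t₁ σ₁ := by
    rw [gs_map, show (Scheme.pointSmallEtale (η ≫ g)).fiber.map a₁.val t₀ = t₁ from a₁.property]
  have e₂ : gs (η ≫ g) P t₀ (P.obj.map a₂.val.op σ₂) = gs (η ≫ g) P t₂ σ₂ := by
    rw [gs_map, show (Scheme.pointSmallEtale (η ≫ g)).fiber.map a₂.val t₀ = t₂ from a₂.property]
  generalize P.obj.map a₁.val.op σ₁ = σ at e₁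
  generalize P.obj.map a₂.val.op σ₂ = τ at e₂
  rw [← (gs_pl_eq_iff g η P t₀ t₁ σ σ₁).2 e₁, ← (gs_pl_eq_iff g η P t₀ t₂ τ σ₂).2 e₂,
    baseChange_gs f g f' h sq F η t₀ σ, baseChange_gs f g f' h sq F η t₀ τ] at e
  rw [gs_pl_eq_iff, ← e₁, ← e₂]
  obtain ⟨W, aW, tW, hW1, hW2⟩ := ((Scheme.pointSmallEtale η).toPresheafFiber_eq_iff'
    (P := ((EtDesc.pushSh f').obj ((EtDesc.pullSh h).obj F)).obj) _ (ptUp g η t₀) _ _).1 e
  let v₀ : V₀.left := hom (η ≫ g) t₀ default
  have : Etale V₀.hom := V₀.prop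
  have : LocallyQuasiFinite V₀.hom := Unr55.locallyQuasiFinite_of_formallyUnramified _
  have hd : DiscreteTopology V₀.left := by
    let p : V₀.left ⟶ Spec (CommRingCat.of k) := V₀.hom
    have : LocallyQuasiFinite p := ‹LocallyQuasiFinite V₀.hom›
    have h0 := p.isDiscrete_preimage_singleton default
    rw [show p ⁻¹' {default} = Set.univ from Set.eq_univ_of_forall fun x => Subsingleton.elim _ _] at h0
    exact isDiscrete_univ_iff.1 h0
  let O : V₀.left.Opens := ⟨{v₀}, isOpen_discrete _⟩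
  have hv₀ : hom (η ≫ g) t₀ default ∈ O := rfl
  refine ((Scheme.pointSmallEtale (η ≫ g)).toPresheafFiber_eq_iff' (P := P.obj) V₀ t₀ σ τ).2
    ⟨openSub V₀ O, openSubι V₀ O, ptOpen O t₀ hv₀, map_ptOpen O t₀ hv₀, ?_⟩
  change F.obj.map ((EtCoh.bc f).map (openSubι V₀ O)).op σ = F.obj.map ((EtCoh.bc f).map (openSubι V₀ O)).op τ
  refine eq_of_eqLoc F fun x => ?_
  rw [mem_eqLoc_map_iff]
  let y := ((EtCoh.bc f).map (openSubι V₀ O)).left x
  change y ∈ _
  have hy : pullback.fst V₀.hom f y = v₀ := by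
    refine Eq.trans (congrArg (fun q : ((EtCoh.bc f).obj (openSub V₀ O)).left ⟶ V₀.left => q x)
      (bc_map_fst f (openSubι V₀ O))) ?_
    exact (pullback.fst (openSub V₀ O).hom f x).2
  have hw : (aW.left ≫ pullback.fst V₀.hom g) (hom η tW default) = v₀ := by
    have h1 : hom η tW ≫ aW.left = hom η (ptUp g η t₀) := congrArg (fun q => hom η q) hW1
    have h2 : hom η (ptUp g η t₀) ≫ pullback.fst V₀.hom g = hom (η ≫ g) t₀ := pullback.lift_fst _ _ _
    have h3 : (hom η tW ≫ aW.left) ≫ pullback.fst V₀.hom g = hom (η ≫ g) t₀ := by rw [h1, h2]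
    exact congrArg (fun q : Spec (CommRingCat.of Ω) ⟶ V₀.left => q default) h3
  obtain ⟨q, -, hq⟩ := Scheme.Pullback.exists_preimage_pullback (f := aW.left ≫ pullback.fst V₀.hom g)
    (g := pullback.fst V₀.hom f) (hom η tW default) y (hw.trans hy.symm)
  let E : pullback (aW.left ≫ pullback.fst V₀.hom g) (pullback.fst V₀.hom f) ⟶ ((EtCoh.bc f').obj W).left :=
    pullback.lift (pullback.fst _ _)
      (sq.lift (pullback.snd _ _ ≫ pullback.snd V₀.hom f) (pullback.fst _ _ ≫ W.hom) (by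
        rw [Category.assoc, Category.assoc, ← pullback.condition, ← pullback.condition_assoc,
          ← MorphismProperty.Over.w aW, Category.assoc, pullback.condition]
        simp only [Category.assoc]
        rfl))
      (sq.lift_snd _ _ _).symm
  let m := (EtCoh.bc f').map aW ≫ bcSquare f g f' h sq.w V₀
  have hc : E ≫ m.left ≫ pullback.fst ((EtCoh.bc f).obj V₀).hom h = pullback.snd _ _ := by
    apply pullback.hom_ext
    · change (E ≫ (((EtCoh.bc f').map aW).left ≫ (bcSquare f g f' h sq.w V₀).left) ≫ _) ≫ _ = _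
      simp only [Category.assoc]
      rw [bcSquare_fst, ← Category.assoc ((EtCoh.bc f').map aW).left, bc_map_fst, Category.assoc]
      erw [pullback.lift_fst_assoc]
      exact pullback.condition
    · change (E ≫ (((EtCoh.bc f').map aW).left ≫ (bcSquare f g f' h sq.w V₀).left) ≫ _) ≫ _ = _
      simp only [Category.assoc]
      rw [bcSquare_snd, ← Category.assoc ((EtCoh.bc f').map aW).left,
        show ((EtCoh.bc f').map aW).left ≫ pullback.snd ((EtCoh.bc g).obj V₀).hom f' =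
          pullback.snd W.hom f' from MorphismProperty.Over.w ((EtCoh.bc f').map aW)]
      erw [pullback.lift_snd_assoc, sq.lift_fst]
  have key : E q ∈ eqLoc ((EtDesc.pullSh h).obj F)
      (((EtDesc.pullSh h).obj F).obj.map m.op (pl h F (U := (EtCoh.bc f).obj V₀) σ))
      (((EtDesc.pullSh h).obj F).obj.map m.op (pl h F (U := (EtCoh.bc f).obj V₀) τ)) := by
    rw [show ((EtDesc.pullSh h).obj F).obj.map m.op (pl h F (U := (EtCoh.bc f).obj V₀) σ) =
      ((EtDesc.pullSh h).obj F).obj.map m.op (pl h F (U := (EtCoh.bc f).obj V₀) τ) from by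
        simp only [m, op_comp, Functor.map_comp]
        exact hW2]
    exact eqLoc_self _ _ _
  rw [mem_eqLoc_map_iff, mem_eqLoc_pl_iff] at key
  have e3 : pullback.fst ((EtCoh.bc f).obj V₀).hom h (m.left (E q)) = y :=
    (congrArg (fun z : pullback (aW.left ≫ pullback.fst V₀.hom g) (pullback.fst V₀.hom f) ⟶
      ((EtCoh.bc f).obj V₀).left => z q) hc).trans hq
  rw [e3] at key
  exact key

theorem surjective_stalk [QuasiCompact f] :
    Function.Surjective ((stalkSh η).map (EtBC.baseChange0Sh f g f' h sq.w F)) := by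
  intro b
  obtain ⟨V, t, s, rfl⟩ := exists_gs η _ b
  let G' := (EtDesc.pushSh f').obj ((EtDesc.pullSh h).obj F)
  obtain ⟨_, ⟨O, hO, rfl⟩, hvO, -⟩ := V.left.isBasis_affineOpens.exists_subset_of_mem_open
    (Set.mem_univ (hom η t default)) isOpen_univ
  let V₁ := openSub V O
  let t₁ := ptOpen O t hvO
  have : IsAffine V₁.left := hO
  let s₁ := G'.obj.map (openSubι V O).op s
  let D := datum sq V₁ (F := F) s₁
  have : IsAffine ((𝟭 Scheme).obj V₁.left) := hO
  obtain ⟨V₀, σ, Wo, ⟨w, hw, hwv⟩, hD⟩ := exists_descent f D (hom η t₁ default)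
  have : Etale V₀.hom := V₀.prop
  have : Etale V₁.hom := V₁.prop
  let Wobj : Y'.Etale := Scheme.Etale.mk ((Wo.ι ≫ pullback.snd V₀.hom (V₁.hom ≫ g)) ≫ V₁.hom)
  let aW : Wobj ⟶ V₁ := MorphismProperty.Over.homMk (Wo.ι ≫ pullback.snd _ _) rfl trivial
  let bW : Wobj ⟶ (EtCoh.bc g).obj V₀ :=
    MorphismProperty.Over.homMk (pullback.lift (Wo.ι ≫ pullback.fst _ _)
      ((Wo.ι ≫ pullback.snd _ _) ≫ V₁.hom)
      ((Category.assoc _ _ _).trans ((congrArg (Wo.ι ≫ ·) pullback.condition).trans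
        (by simp only [Category.assoc]))))
      (pullback.lift_snd _ _ _) trivial
  obtain ⟨t', ht', -⟩ := exists_lift_pt aW t₁ (⟨w, hw⟩ : Wo.toScheme) hwv
  let t₀ := ptDown g η ((Scheme.pointSmallEtale η).fiber.map bW t')
  refine ⟨gs η _ (ptUp g η t₀) (pl g ((EtDesc.pushSh f).obj F) σ), ?_⟩
  rw [baseChange_gs f g f' h sq F η t₀, ptUp_ptDown]
  refine (gs_map η G' bW t' _).symm.trans (Eq.trans ?_ ((gs_map η G' aW t' s₁).trans ?_))
  · refine congrArg _ ?_
    symm
    change ((EtDesc.pullSh h).obj F).obj.map ((EtCoh.bc f').map aW).op s₁ =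
      ((EtDesc.pullSh h).obj F).obj.map ((EtCoh.bc f').map bW).op
        (((EtDesc.pullSh h).obj F).obj.map (bcSquare f g f' h sq.w V₀).op
          (pl h F (U := (EtCoh.bc f).obj V₀) σ))
    rw [← ConcreteCategory.comp_apply (((EtDesc.pullSh h).obj F).obj.map (bcSquare f g f' h sq.w V₀).op),
      ← Functor.map_comp, ← op_comp]
    refine eq_of_eqLoc _ fun z => (mem_datum_iff sq V₁ s₁ σ _ _ z).2 (hD _ ?_)
    let A := (EtCoh.bc f').map aW
    let B := (EtCoh.bc f').map bW ≫ bcSquare f g f' h sq.w V₀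
    have e : (toProd sq V₁ A B).left ≫ prV f (V₁.hom ≫ g) V₀ = pullback.fst Wobj.hom f' ≫ Wo.ι := by
      apply pullback.hom_ext
      · rw [Category.assoc, prV_fst, ← Category.assoc, toProd_fst, Category.assoc]
        change (((EtCoh.bc f').map bW).left ≫ (bcSquare f g f' h sq.w V₀).left) ≫ _ ≫ _ = _
        rw [Category.assoc, bcSquare_fst, ← Category.assoc, bc_map_fst, Category.assoc]
        erw [pullback.lift_fst]
        simp only [Category.assoc]
      · rw [Category.assoc, prV_snd, toProd_snd, bc_map_fst]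
        simp only [Category.assoc]
        rfl
    rw [show prV f (V₁.hom ≫ g) V₀ ((toProd sq V₁ A B).left z) = Wo.ι (pullback.fst Wobj.hom f' z) from
      congrArg (fun q : ((EtCoh.bc f').obj Wobj).left ⟶ pullback V₀.hom (V₁.hom ≫ g) => q z) e]
    exact (pullback.fst Wobj.hom f' z).2
  · rw [ht']
    exact (gs_map η G' (openSubι V O) t₁ s).trans (by rw [map_ptOpen])

theorem isIso_baseChange0Sh [QuasiCompact f] :
    IsIso (EtBC.baseChange0Sh f g f' h sq.w F) :=
  isIso_of_stalks_sets _ fun _ _ _ η => ⟨injective_stalk f g f' h sq F η, surjective_stalk f g f' h sq F η⟩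

end Groth.Agent.CohProp4
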