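import Mathlib.AlgebraicGeometry.PullbackCarrier
import Mathlib.AlgebraicGeometry.Pullbacks
import Mathlib.FieldTheory.IntermediateField.Adjoin.Algebra
import Mathlib.RingTheory.TensorProduct.Finite
import Mathlib.FieldTheory.IntermediateField.Adjoin.Basic

/-! Open subsets of a base change to an algebraic extension come from finite stages. -/

universe u

open CategoryTheory CategoryTheory.Limits AlgebraicGeometry Opposite
open scoped TensorProduct

set_option autoImplicit false
set_option backward.isDefEq.respectTransparency.types false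

namespace Groth.Agent.CohProp4

variable {k K : Type u} [Field k] [Field K] [Algebra k K]

/-- The spectrum of an extension. -/
noncomputable abbrev rhoOf (k A : Type u) [CommRing k] [CommRing A] [Algebra k A] :
    Spec (CommRingCat.of A) ⟶ Spec (CommRingCat.of k) :=
  Spec.map (CommRingCat.ofHom (algebraMap k A))

theorem inclK_comp (L : IntermediateField k K) : rhoOf L K ≫ rhoOf k L = rhoOf k K := by
  rw [← Spec.map_comp]
  rfl

/-- The projection to a finite stage. -/
noncomputable def piL {Y : Scheme.{u}} (a : Y ⟶ Spec (CommRingCat.of k)) (L : IntermediateField k K) :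
    pullback a (rhoOf k K) ⟶ pullback a (rhoOf k L) :=
  pullback.lift (pullback.fst _ _) (pullback.snd _ _ ≫ rhoOf L K) (by
    rw [Category.assoc, inclK_comp, pullback.condition])

theorem piL_fst {Y : Scheme.{u}} (a : Y ⟶ Spec (CommRingCat.of k)) (L : IntermediateField k K) :
    piL a L ≫ pullback.fst _ _ = pullback.fst _ _ := pullback.lift_fst _ _ _

theorem piL_snd {Y : Scheme.{u}} (a : Y ⟶ Spec (CommRingCat.of k)) (L : IntermediateField k K) :
    piL a L ≫ pullback.snd _ _ = pullback.snd _ _ ≫ rhoOf L K := pullback.lift_snd _ _ _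

theorem exists_descend_affine [Algebra.IsAlgebraic k K] (A : Type u) [CommRing A] [Algebra k A]
    (B : Set ↥(pullback (rhoOf k A) (rhoOf k K))) (hB : IsOpen B)
    (u₀ : ↥(pullback (rhoOf k A) (rhoOf k K))) (hu : u₀ ∈ B) :
    ∃ (D : Set ↥(pullback (rhoOf k A) (rhoOf k K))) (L : IntermediateField k K),
      FiniteDimensional k L ∧ u₀ ∈ D ∧ D ⊆ B ∧
      ∀ L', L ≤ L' → ∃ B' : Set ↥(pullback (rhoOf k A) (rhoOf k L')), IsOpen B' ∧
        piL (rhoOf k A) L' ⁻¹' B' = D := by
  let I := pullbackSpecIso k A K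
  obtain ⟨-, ⟨_, rfl⟩, hx, hxB⟩ := PrimeSpectrum.isTopologicalBasis_basic_opens.exists_subset_of_mem_open
    (show I.hom u₀ ∈ I.inv ⁻¹' B by
      rw [Set.mem_preimage, ← Scheme.Hom.comp_apply, I.hom_inv_id]; exact hu)
    (hB.preimage I.inv.continuous)
  rename_i x
  obtain ⟨S, hS⟩ := TensorProduct.exists_finset x
  let G : Finset K := by classical exact S.image Prod.snd
  refine ⟨I.hom ⁻¹' ((PrimeSpectrum.basicOpen x : TopologicalSpace.Opens (PrimeSpectrum (A ⊗[k] K))) : Set (PrimeSpectrum (A ⊗[k] K))), IntermediateField.adjoin k (G : Set K),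
    IntermediateField.finiteDimensional_adjoin fun c _ =>
      (Algebra.IsAlgebraic.isAlgebraic c).isIntegral, hx, fun z hz => ?_, fun L' hL' => ?_⟩
  · have := hxB hz
    have e : (I.hom ≫ I.inv) z ∈ B := this
    rwa [I.hom_inv_id] at e
  · let μ : A ⊗[k] L' →ₐ[k] A ⊗[k] K := Algebra.TensorProduct.map (AlgHom.id k A) L'.val
    obtain ⟨y, hy⟩ : x ∈ μ.range := by
      rw [hS]
      refine Subalgebra.sum_mem _ fun p hp => ?_
      have hm : p.2 ∈ L' := hL' (IntermediateField.subset_adjoin k _ (by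
        classical
        simpa [G] using ⟨p.1, hp⟩))
      exact ⟨p.1 ⊗ₜ[k] ⟨p.2, hm⟩, rfl⟩
    let J := pullbackSpecIso k A L'
    have e : I.inv ≫ piL (rhoOf k A) L' = Spec.map (CommRingCat.ofHom μ.toRingHom) ≫ J.inv := by
      apply pullback.hom_ext
      · rw [Category.assoc, piL_fst, Category.assoc, pullbackSpecIso_inv_fst, pullbackSpecIso_inv_fst,
          ← Spec.map_comp]
        congr 1
      · rw [Category.assoc, piL_snd, Category.assoc, pullbackSpecIso_inv_snd, ← Category.assoc,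
          pullbackSpecIso_inv_snd, ← Spec.map_comp, ← Spec.map_comp]
        congr 1
    refine ⟨J.hom ⁻¹' ((PrimeSpectrum.basicOpen y : TopologicalSpace.Opens (PrimeSpectrum (A ⊗[k] L'))) : Set (PrimeSpectrum (A ⊗[k] L'))),
      PrimeSpectrum.isOpen_basicOpen.preimage J.hom.continuous, ?_⟩
    ext z
    have e' : piL (rhoOf k A) L' ≫ J.hom = I.hom ≫ Spec.map (CommRingCat.ofHom μ.toRingHom) := by
      rw [← cancel_epi I.inv, ← Category.assoc, e, Category.assoc, J.inv_hom_id, Category.comp_id,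
        I.inv_hom_id_assoc]
    rw [Set.mem_preimage, Set.mem_preimage, ← Scheme.Hom.comp_apply, e', Scheme.Hom.comp_apply,
      Set.mem_preimage]
    change (I.hom z : PrimeSpectrum (A ⊗[k] K)) ∈ PrimeSpectrum.basicOpen (μ.toRingHom y) ↔
      (I.hom z : PrimeSpectrum (A ⊗[k] K)) ∈ PrimeSpectrum.basicOpen x
    rw [show μ.toRingHom y = x from hy]

theorem exists_descend [Algebra.IsAlgebraic k K] {Y : Scheme.{u}} (a : Y ⟶ Spec (CommRingCat.of k))
    (B : Set ↥(pullback a (rhoOf k K))) (hB : IsOpen B) (u₀ : ↥(pullback a (rhoOf k K))) (hu : u₀ ∈ B) :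
    ∃ (D : Set ↥(pullback a (rhoOf k K))) (L : IntermediateField k K),
      FiniteDimensional k L ∧ u₀ ∈ D ∧ D ⊆ B ∧
      ∀ L', L ≤ L' → ∃ B' : Set ↥(pullback a (rhoOf k L')), IsOpen B' ∧ piL a L' ⁻¹' B' = D := by
  obtain ⟨_, ⟨W, hW, rfl⟩, hyW, -⟩ := Y.isBasis_affineOpens.exists_subset_of_mem_open
    (Set.mem_univ (pullback.fst a (rhoOf k K) u₀)) isOpen_univ
  let A := Γ(Y, W)
  obtain ⟨φ, hφ⟩ := Spec.map_surjective (hW.fromSpec ≫ a)
  algebraize [φ.hom]
  have hA : rhoOf k A = hW.fromSpec ≫ a := hφ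
  let i (Z : Type u) [CommRing Z] [Algebra k Z] : pullback (rhoOf k A) (rhoOf k Z) ⟶ pullback a (rhoOf k Z) :=
    pullback.map _ _ _ _ hW.fromSpec (𝟙 _) (𝟙 _) (by rw [hA, Category.comp_id]) (by simp)
  have hi (Z : Type u) [CommRing Z] [Algebra k Z] : IsOpenImmersion (i Z) :=
    MorphismProperty.pullbackMap (P := @IsOpenImmersion) (inferInstance : IsOpenImmersion hW.fromSpec)
      (inferInstance : IsOpenImmersion (𝟙 _)) hA (by simp)
  have hri (Z : Type u) [CommRing Z] [Algebra k Z] :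
      Set.range (i Z) = pullback.fst a (rhoOf k Z) ⁻¹' (W : Set Y) := by
    rw [show Set.range (i Z) = _ from Scheme.Pullback.range_map _ _ _ _ _ _ _ _ _, hW.range_fromSpec]
    simp
  have hc (L : IntermediateField k K) : i K ≫ piL a L = piL (rhoOf k A) L ≫ i L := by
    apply pullback.hom_ext
    · rw [Category.assoc, piL_fst, Category.assoc, pullback.lift_fst, pullback.lift_fst, ← Category.assoc,
        piL_fst]
    · rw [Category.assoc, piL_snd, Category.assoc, pullback.lift_snd, ← Category.assoc, pullback.lift_snd]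
      simp only [Category.comp_id]
      rw [piL_snd]
  obtain ⟨u₁, rfl⟩ := (hri K).ge hyW
  obtain ⟨D, L, hL, huD, hDB, hD⟩ := exists_descend_affine A (i K ⁻¹' B) (hB.preimage (i K).continuous) u₁ hu
  refine ⟨i K '' D, L, hL, ⟨u₁, huD, rfl⟩, Set.image_subset_iff.2 hDB, fun L' hL' => ?_⟩
  obtain ⟨B', hB', hB'D⟩ := hD L' hL'
  refine ⟨i L' '' B', (i L').isOpenEmbedding.isOpenMap _ hB', ?_⟩
  ext z
  constructor
  · rintro ⟨b, hb, hbz⟩
    obtain ⟨z, rfl⟩ := (hri K).ge (show pullback.fst a (rhoOf k K) z ∈ W by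
      rw [← piL_fst a L', Scheme.Hom.comp_apply, ← hbz]
      exact (hri L').le ⟨b, rfl⟩)
    refine ⟨z, ?_, rfl⟩
    rw [← hB'D, Set.mem_preimage]
    rw [← Scheme.Hom.comp_apply, hc, Scheme.Hom.comp_apply] at hbz
    rwa [← (i L').isOpenEmbedding.injective hbz]
  · rintro ⟨z, hz, rfl⟩
    rw [← hB'D] at hz
    exact ⟨_, hz, by rw [← Scheme.Hom.comp_apply, ← hc, Scheme.Hom.comp_apply]⟩

end Groth.Agent.CohProp4
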