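import Groth.Agent.CohProp4.Locus

/-! Base changes of etale schemes over a morphism and comparison data. -/

universe u

open CategoryTheory CategoryTheory.Limits AlgebraicGeometry Opposite

set_option autoImplicit false
set_option backward.isDefEq.respectTransparency.types false

namespace Groth.Agent.CohProp4

variable {S X Z : Scheme.{u}} (f : X ⟶ S)

/-- The base change to `Z` of an etale `X`-scheme. -/
noncomputable abbrev PB (U : X.Etale) (ρ : Z ⟶ S) : Scheme.{u} := pullback (U.hom ≫ f) ρ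

variable (ρ : Z ⟶ S)

/-- Functoriality in the etale scheme. -/
noncomputable def mapU {U U' : X.Etale} (g : U' ⟶ U) : PB f U' ρ ⟶ PB f U ρ :=
  pullback.lift (pullback.fst _ _ ≫ g.left) (pullback.snd _ _) (by
    rw [Category.assoc, ← Category.assoc g.left, MorphismProperty.Over.w g, pullback.condition])

theorem mapU_fst {U U' : X.Etale} (g : U' ⟶ U) :
    mapU f ρ g ≫ pullback.fst _ _ = pullback.fst _ _ ≫ g.left := pullback.lift_fst _ _ _

theorem mapU_snd {U U' : X.Etale} (g : U' ⟶ U) :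
    mapU f ρ g ≫ pullback.snd _ _ = pullback.snd _ _ := pullback.lift_snd _ _ _

theorem mapU_comp {U U' U'' : X.Etale} (a : U'' ⟶ U') (b : U' ⟶ U) :
    mapU f ρ (a ≫ b) = mapU f ρ a ≫ mapU f ρ b := by
  apply pullback.hom_ext
  · rw [mapU_fst, Category.assoc, mapU_fst, ← Category.assoc (mapU f ρ a), mapU_fst, Category.assoc]
    rfl
  · rw [mapU_snd, Category.assoc, mapU_snd, mapU_snd]

instance etale_mapU {U U' : X.Etale} (g : U' ⟶ U) : Etale (mapU f ρ g) := by
  have hg : Etale g.left := Unr55.EtSh.etale_left g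
  have e : mapU f ρ g = pullback.map (U'.hom ≫ f) ρ (U.hom ≫ f) ρ g.left (𝟙 Z) (𝟙 S)
      (by rw [Category.comp_id, ← Category.assoc, MorphismProperty.Over.w g]) (by simp) := by
    apply pullback.hom_ext
    · rw [mapU_fst]; exact (pullback.lift_fst _ _ _).symm
    · rw [mapU_snd]; exact ((pullback.lift_snd _ _ _).trans (Category.comp_id _)).symm
  rw [e]
  exact MorphismProperty.pullbackMap hg (inferInstance : Etale (𝟙 Z))
    (by rw [← Category.assoc, MorphismProperty.Over.w g]) (by simp)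

/-- The projection to the base change of `X`. -/
noncomputable def toX (U : X.Etale) : PB f U ρ ⟶ pullback f ρ :=
  pullback.map (U.hom ≫ f) ρ f ρ U.hom (𝟙 Z) (𝟙 S) (by simp) (by simp)

theorem toX_fst (U : X.Etale) : toX f ρ U ≫ pullback.fst _ _ = pullback.fst _ _ ≫ U.hom :=
  pullback.lift_fst _ _ _

theorem toX_snd (U : X.Etale) : toX f ρ U ≫ pullback.snd _ _ = pullback.snd _ _ :=
  (pullback.lift_snd _ _ _).trans (Category.comp_id _)

instance etale_toX (U : X.Etale) : Etale (toX f ρ U) :=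
  MorphismProperty.pullbackMap (U.prop : Etale U.hom) (inferInstance : Etale (𝟙 Z)) rfl (by simp)

theorem exists_mapU_eq {U U' : X.Etale} (g : U' ⟶ U) (r : ↥(PB f U ρ)) (b : U'.left)
    (h : g.left b = pullback.fst (U.hom ≫ f) ρ r) :
    ∃ r' : ↥(PB f U' ρ), mapU f ρ g r' = r ∧ pullback.fst (U'.hom ≫ f) ρ r' = b := by
  obtain ⟨q, hq1, hq2⟩ := Scheme.Pullback.exists_preimage_pullback (f := g.left)
    (g := pullback.fst (U.hom ≫ f) ρ) b r h
  let c : pullback g.left (pullback.fst (U.hom ≫ f) ρ) ⟶ PB f U' ρ :=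
    pullback.lift (pullback.fst _ _) (pullback.snd _ _ ≫ pullback.snd _ _) (by
      rw [Category.assoc, ← pullback.condition (f := U.hom ≫ f) (g := ρ), ← MorphismProperty.Over.w g]
      simp only [Category.assoc]
      rw [pullback.condition_assoc])
  have e1 : c ≫ mapU f ρ g = pullback.snd _ _ := by
    apply pullback.hom_ext
    · rw [Category.assoc, mapU_fst, pullback.lift_fst_assoc, pullback.condition]
    · rw [Category.assoc, mapU_snd, pullback.lift_snd]
  refine ⟨c q, ?_, ?_⟩
  · rw [← Scheme.Hom.comp_apply, e1, hq2]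
  · rw [← Scheme.Hom.comp_apply, pullback.lift_fst, hq1]

/-- The fibre product of two etale schemes. -/
noncomputable def prodEt (U U' : X.Etale) : X.Etale :=
  have : Etale U.hom := U.prop
  have : Etale U'.hom := U'.prop
  Scheme.Etale.mk (pullback.fst U.hom U'.hom ≫ U.hom)

/-- First projection. -/
noncomputable def prodFst (U U' : X.Etale) : prodEt U U' ⟶ U :=
  MorphismProperty.Over.homMk (pullback.fst U.hom U'.hom) rfl trivial

/-- Second projection. -/
noncomputable def prodSnd (U U' : X.Etale) : prodEt U U' ⟶ U' :=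
  MorphismProperty.Over.homMk (pullback.snd U.hom U'.hom) pullback.condition.symm trivial

theorem exists_pair (U U' : X.Etale) (p : ↥(PB f U ρ)) (p' : ↥(PB f U' ρ))
    (h : toX f ρ U p = toX f ρ U' p') :
    ∃ r : ↥(PB f (prodEt U U') ρ),
      mapU f ρ (prodFst U U') r = p ∧ mapU f ρ (prodSnd U U') r = p' := by
  obtain ⟨q, hq1, hq2⟩ := Scheme.Pullback.exists_preimage_pullback (f := toX f ρ U)
    (g := toX f ρ U') p p' h
  have w1 : (pullback.fst (toX f ρ U) (toX f ρ U') ≫ pullback.fst (U.hom ≫ f) ρ) ≫ U.hom =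
      (pullback.snd (toX f ρ U) (toX f ρ U') ≫ pullback.fst (U'.hom ≫ f) ρ) ≫ U'.hom := by
    rw [Category.assoc, Category.assoc, ← toX_fst, ← toX_fst, pullback.condition_assoc]
  have w2 : pullback.fst (toX f ρ U) (toX f ρ U') ≫ pullback.snd (U.hom ≫ f) ρ =
      pullback.snd (toX f ρ U) (toX f ρ U') ≫ pullback.snd (U'.hom ≫ f) ρ := by
    rw [← toX_snd, ← toX_snd, pullback.condition_assoc]
  let c : pullback (toX f ρ U) (toX f ρ U') ⟶ PB f (prodEt U U') ρ :=
    pullback.lift (pullback.lift _ _ w1) (pullback.fst _ _ ≫ pullback.snd _ _) (by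
      change pullback.lift _ _ w1 ≫ (pullback.fst U.hom U'.hom ≫ U.hom) ≫ f = _
      rw [Category.assoc, pullback.lift_fst_assoc, Category.assoc, Category.assoc, pullback.condition])
  have e1 : c ≫ mapU f ρ (prodFst U U') = pullback.fst _ _ := by
    apply pullback.hom_ext
    · rw [Category.assoc, mapU_fst, pullback.lift_fst_assoc]
      exact pullback.lift_fst _ _ _
    · rw [Category.assoc, mapU_snd, pullback.lift_snd]
  have e2 : c ≫ mapU f ρ (prodSnd U U') = pullback.snd _ _ := by
    apply pullback.hom_ext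
    · rw [Category.assoc, mapU_fst, pullback.lift_fst_assoc]
      exact pullback.lift_snd _ _ _
    · rw [Category.assoc, mapU_snd, pullback.lift_snd, w2]
  exact ⟨c q, by rw [← Scheme.Hom.comp_apply, e1, hq1], by rw [← Scheme.Hom.comp_apply, e2, hq2]⟩

/-- Where local sections agree with a section over a base change, formally. -/
structure Datum {V : Scheme.{u}} (v : V ⟶ S) (F : EtDesc.Sh X) where
  /-- the agreement locus -/
  ag : ∀ {U : X.Etale}, EtDesc.sect F U → Set ↥(PB f U v)
  isOpen_ag : ∀ {U : X.Etale} (σ : EtDesc.sect F U), IsOpen (ag σ)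
  mem_map_iff : ∀ {U U' : X.Etale} (g : U' ⟶ U) (σ : EtDesc.sect F U) (p : ↥(PB f U' v)),
    p ∈ ag (F.obj.map g.op σ) ↔ mapU f v g p ∈ ag σ
  eq_of_mem : ∀ {U : X.Etale} (σ τ : EtDesc.sect F U) (p : ↥(PB f U v)), p ∈ ag σ → p ∈ ag τ →
    pullback.fst (U.hom ≫ f) v p ∈ eqLoc F σ τ
  mem_of_eq : ∀ {U : X.Etale} (σ τ : EtDesc.sect F U) (p : ↥(PB f U v)),
    pullback.fst (U.hom ≫ f) v p ∈ eqLoc F σ τ → p ∈ ag σ → p ∈ ag τ
  cover : ∀ m : ↥(pullback f v), ∃ (U : X.Etale) (σ : EtDesc.sect F U) (p : ↥(PB f U v)),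
    p ∈ ag σ ∧ toX f v U p = m

end Groth.Agent.CohProp4
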