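import Groth.Agent.CohProp4.Fibre
import Groth.Agent.CohProp4.OpenDescent
import Mathlib.RingTheory.Etale.Field
import Mathlib.AlgebraicGeometry.Morphisms.Etale

/-! Pieces defined over a finite separable extension and their agreement. -/

universe u

open CategoryTheory CategoryTheory.Limits AlgebraicGeometry Opposite

set_option autoImplicit false
set_option backward.isDefEq.respectTransparency.types false

namespace Groth.Agent.CohProp4

variable {k K : Type u} [Field k] [Field K] [Algebra k K]

theorem etale_rhoOf [Algebra.IsSeparable k K] (L : IntermediateField k K) [FiniteDimensional k L] :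
    Etale (rhoOf k L) := by
  have : Algebra.IsSeparable k L := Algebra.isSeparable_tower_bot_of_isSeparable k L K
  have : Algebra.FormallyEtale k L := Algebra.FormallyEtale.of_isSeparable k L
  have : Algebra.FinitePresentation k L :=
    Algebra.FinitePresentation.of_finiteType.1 inferInstance
  rw [HasRingHomProperty.Spec_iff (P := @Etale), CommRingCat.hom_ofHom, RingHom.etale_algebraMap]
  exact ⟨inferInstance, inferInstance⟩

variable {X : Scheme.{u}} (f : X ⟶ Spec (CommRingCat.of k)) {V : Scheme.{u}}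
  {v : V ⟶ Spec (CommRingCat.of k)} {F : EtDesc.Sh X} (D : Datum f v F)
  {T : Scheme.{u}} (τ : T ⟶ Spec (CommRingCat.of K)) (jT : T ⟶ V) (hjT : jT ≫ v = τ ≫ rhoOf k K)

/-- The image in the base change to `K` of an agreement locus. -/
def locK {U : X.Etale} (σ : EtDesc.sect F U) : Set ↥(PB f U (rhoOf k K)) :=
  pullback.fst (pullback.snd (U.hom ≫ f) (rhoOf k K)) τ '' (toV f (rhoOf k K) τ jT hjT U ⁻¹' D.ag σ)

theorem toV_mem_of_fst_mem_locK [GeometricallyConnected τ] {U : X.Etale} (σ : EtDesc.sect F U)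
    (q : ↥(pullback (pullback.snd (U.hom ≫ f) (rhoOf k K)) τ))
    (hq : pullback.fst (pullback.snd (U.hom ≫ f) (rhoOf k K)) τ q ∈ locK f D τ jT hjT σ) :
    toV f (rhoOf k K) τ jT hjT U q ∈ D.ag σ := by
  obtain ⟨q', hq', e⟩ := hq
  exact (ag_iff_of_fst_eq f D (rhoOf k K) τ jT hjT σ q' q e).1 hq'

theorem isOpen_locK {U : X.Etale} (σ : EtDesc.sect F U) : IsOpen (locK f D τ jT hjT σ) :=
  (pullback.fst (pullback.snd (U.hom ≫ f) (rhoOf k K)) τ).isOpenMap _
    ((D.isOpen_ag σ).preimage (toV f (rhoOf k K) τ jT hjT U).continuous)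

theorem exists_locK [GeometricallyConnected τ] (x : ↥(pullback f (rhoOf k K))) :
    ∃ (U : X.Etale) (σ : EtDesc.sect F U) (u₀ : ↥(PB f U (rhoOf k K))),
      u₀ ∈ locK f D τ jT hjT σ ∧ toX f (rhoOf k K) U u₀ = x := by
  obtain ⟨q, hq⟩ := (pullback.fst (pullback.snd f (rhoOf k K)) τ).surjective x
  let φ : pullback (pullback.snd f (rhoOf k K)) τ ⟶ pullback f v :=
    pullback.lift (pullback.fst _ _ ≫ pullback.fst _ _) (pullback.snd _ _ ≫ jT) (by
      rw [Category.assoc, Category.assoc, hjT, pullback.condition, pullback.condition_assoc])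
  obtain ⟨U, σ, p, hp, hpm⟩ := D.cover (φ q)
  obtain ⟨z, hz1, hz2⟩ := Scheme.Pullback.exists_preimage_pullback (f := φ) (g := toX f v U) q p hpm.symm
  have w1 : (pullback.snd φ (toX f v U) ≫ pullback.fst (U.hom ≫ f) v) ≫ U.hom =
      pullback.fst φ (toX f v U) ≫ pullback.fst _ τ ≫ pullback.fst f _ := by
    rw [Category.assoc, ← toX_fst, ← pullback.condition_assoc, pullback.lift_fst]
  let u₁ : pullback φ (toX f v U) ⟶ PB f U (rhoOf k K) :=
    pullback.lift (pullback.snd _ _ ≫ pullback.fst _ _)
      (pullback.fst _ _ ≫ pullback.fst _ τ ≫ pullback.snd _ _) (by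
        rw [← Category.assoc, w1]
        simp only [Category.assoc]
        rw [pullback.condition (f := f) (g := rhoOf k K)])
  let c : pullback φ (toX f v U) ⟶ pullback (pullback.snd (U.hom ≫ f) (rhoOf k K)) τ :=
    pullback.lift u₁ (pullback.fst _ _ ≫ pullback.snd _ _) (by
      rw [pullback.lift_snd, Category.assoc, ← pullback.condition])
  have e1 : c ≫ toV f (rhoOf k K) τ jT hjT U = pullback.snd _ _ := by
    apply pullback.hom_ext
    · rw [Category.assoc, toV_fst, pullback.lift_fst_assoc, pullback.lift_fst]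
    · rw [Category.assoc, toV_snd, pullback.lift_snd_assoc, ← toX_snd f v U, ← pullback.condition_assoc,
        pullback.lift_snd, Category.assoc]
  have e2 : c ≫ pullback.fst _ τ ≫ toX f (rhoOf k K) U = pullback.fst _ _ ≫ pullback.fst _ τ := by
    apply pullback.hom_ext
    · simp only [Category.assoc]
      rw [toX_fst, pullback.lift_fst_assoc, ← Category.assoc, pullback.lift_fst, w1]
    · simp only [Category.assoc]
      rw [toX_snd, pullback.lift_fst_assoc, pullback.lift_snd]
  refine ⟨U, σ, pullback.fst _ τ (c z), ⟨c z, ?_, rfl⟩, ?_⟩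
  · rw [Set.mem_preimage, ← Scheme.Hom.comp_apply, e1, hz2]
    exact hp
  · rw [← Scheme.Hom.comp_apply, ← Scheme.Hom.comp_apply, e2, Scheme.Hom.comp_apply, hz1, hq]

end Groth.Agent.CohProp4
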