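import Groth.Agent.EtSets93.SecPull

/-! Germs of pulled back sections of sheaves of sets. -/
universe u
open CategoryTheory CategoryTheory.Limits AlgebraicGeometry Opposite
namespace Groth.Agent.CohProp4
open Groth.Agent.Unr55.EtSh Groth.Agent.An92.EtSets
set_option autoImplicit false
set_option backward.isDefEq.respectTransparency.types false

theorem sheafFiber_map_germ {C : Type*} [Category C] {J : GrothendieckTopology C}
    (Φ : GrothendieckTopology.Point.{u} J) {P Q : Sheaf J (Type (u + 1))} (g : P ⟶ Q) (U : C) (t : Φ.fiber.obj U) :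
    Φ.toPresheafFiber U t P.obj ≫ Φ.sheafFiber.map g = g.hom.app (op U) ≫ Φ.toPresheafFiber U t Q.obj :=
  Φ.toPresheafFiber_naturality g.hom U t

theorem counit_germ {C : Type*} [Category C] {J : GrothendieckTopology C}
    (Φ : GrothendieckTopology.Point.{u} J) (M : Type (u + 1)) (U : C) (t : Φ.fiber.obj U) :
    Φ.toPresheafFiber U t (Φ.skyscraperSheaf M).obj ≫ Φ.skyscraperSheafAdjunction.counit.app M = Pi.π _ t := by
  have e : Φ.skyscraperSheafAdjunction.counit.app M =
      Φ.skyscraperPresheafHomEquiv.symm (𝟙 (Φ.skyscraperPresheaf M)) := by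
    rw [← Φ.skyscraperPresheafAdjunction_homEquiv_symm_apply, Adjunction.homEquiv_counit]
    simp [GrothendieckTopology.Point.skyscraperSheafAdjunction]
    rfl
  refine (congrArg (Φ.toPresheafFiber U t (Φ.skyscraperPresheaf M) ≫ ·) e).trans ?_
  exact (Φ.toPresheafFiber_skyscraperPresheafHomEquiv_symm (𝟙 _) U t).trans (Category.id_comp _)

theorem unit_germ {C : Type*} [Category C] {J : GrothendieckTopology C}
    (Φ : GrothendieckTopology.Point.{u} J) (Q : Sheaf J (Type (u + 1))) (U : C) (t : Φ.fiber.obj U) :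
    (Φ.skyscraperSheafAdjunction.unit.app Q).hom.app (op U) ≫ Pi.π _ t = Φ.toPresheafFiber U t Q.obj := by
  have e : (Φ.skyscraperSheafAdjunction.unit.app Q).hom =
      Φ.skyscraperPresheafHomEquiv (𝟙 (Φ.presheafFiber.obj Q.obj)) := by
    rw [← Φ.skyscraperPresheafAdjunction_homEquiv_apply, Adjunction.homEquiv_unit]
    simp [GrothendieckTopology.Point.skyscraperSheafAdjunction]
    rfl
  refine (congrArg (fun v : Q.obj ⟶ Φ.skyscraperPresheaf (Φ.presheafFiber.obj Q.obj) => v.app (op U) ≫ Pi.π _ t) e).trans ?_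
  exact (Φ.skyscraperPresheafHomEquiv_app_π (𝟙 _) U t).trans (Category.comp_id _)

/-- The stalk of a pulled back section. -/
theorem comapIso_germ {C D : Type*} [Category C] [Category D] {K : GrothendieckTopology D}
    (Φ : GrothendieckTopology.Point.{u} K) (F : C ⥤ D) [RepresentablyFlat F] {J : GrothendieckTopology C}
    (hF : CoverPreserving J K F) [InitiallySmall.{u} (F ⋙ Φ.fiber).Elements] [F.IsContinuous J K]
    [(F.sheafPushforwardContinuous (Type (u + 1)) J K).IsRightAdjoint]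
    (G : Sheaf J (Type (u + 1))) (U : C) (t : Φ.fiber.obj (F.obj U)) :
    (Φ.comap F hF).toPresheafFiber U t G.obj ≫ (Φ.sheafFiberComapIso F hF (Type (u + 1))).hom.app G =
      ((F.sheafAdjunctionContinuous (Type (u + 1)) J K).unit.app G).hom.app (op U) ≫
        Φ.toPresheafFiber (F.obj U) t ((F.sheafPullback (Type (u + 1)) J K).obj G).obj := by
  rw [GrothendieckTopology.Point.sheafFiberComapIso_hom_app]
  refine ConcreteCategory.hom_ext _ _ fun σ => ?_
  set Ψ := Φ.comap F hF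
  set R := (F.sheafPullback (Type (u + 1)) J K).obj G
  have e1 := ConcreteCategory.congr_hom (sheafFiber_map_germ Ψ
    ((F.sheafAdjunctionContinuous (Type (u + 1)) J K).unit.app G) U t) σ
  have e2 := ConcreteCategory.congr_hom (sheafFiber_map_germ Ψ
    ((F.sheafPushforwardContinuous (Type (u + 1)) J K).map (Φ.skyscraperSheafAdjunction.unit.app R)) U t)
    (((F.sheafAdjunctionContinuous (Type (u + 1)) J K).unit.app G).hom.app (op U) σ)
  have e3 := ConcreteCategory.congr_hom (sheafFiber_map_germ Ψ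
    ((Φ.skyscraperSheafFunctorCompSheafPushforwardContinuous F hF (Type (u + 1))).hom.app (Φ.sheafFiber.obj R)) U t)
    ((Φ.skyscraperSheafAdjunction.unit.app R).hom.app (op (F.obj U))
      (((F.sheafAdjunctionContinuous (Type (u + 1)) J K).unit.app G).hom.app (op U) σ))
  have e4 := ConcreteCategory.congr_hom (counit_germ Ψ (Φ.sheafFiber.obj R) U t)
    ((Φ.skyscraperSheafAdjunction.unit.app R).hom.app (op (F.obj U))
      (((F.sheafAdjunctionContinuous (Type (u + 1)) J K).unit.app G).hom.app (op U) σ))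
  have e5 := ConcreteCategory.congr_hom (unit_germ Φ R (F.obj U) t)
    (((F.sheafAdjunctionContinuous (Type (u + 1)) J K).unit.app G).hom.app (op U) σ)
  let m1 := Ψ.sheafFiber.map ((F.sheafAdjunctionContinuous (Type (u + 1)) J K).unit.app G)
  let m2 := Ψ.sheafFiber.map ((F.sheafPushforwardContinuous (Type (u + 1)) J K).map (Φ.skyscraperSheafAdjunction.unit.app R))
  let m3 := Ψ.sheafFiber.map ((Φ.skyscraperSheafFunctorCompSheafPushforwardContinuous F hF (Type (u + 1))).hom.app (Φ.sheafFiber.obj R))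
  let m4 := Ψ.skyscraperSheafAdjunction.counit.app (Φ.sheafFiber.obj R)
  change m4 (m3 (m2 (m1 (Ψ.toPresheafFiber U t G.obj σ)))) = _
  refine (congrArg (fun a => m4 (m3 (m2 a))) e1).trans ?_
  refine (congrArg (fun a => m4 (m3 a)) e2).trans ?_
  refine (congrArg (fun a => m4 a) e3).trans ?_
  exact e4.trans e5

section

variable {X' X : Scheme.{u}}

/-- Germ of a section of a sheaf of sets at a geometric point. -/
noncomputable def gs {Ω : Type u} [Field Ω] [IsSepClosed Ω] (ξ : Spec (CommRingCat.of Ω) ⟶ X)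
    (F : EtDesc.Sh X) {U : X.Etale} (t : Pt ξ U) (σ : EtDesc.sect F U) : (stalkSh ξ).obj F :=
  (Scheme.pointSmallEtale ξ).toPresheafFiber U t F.obj σ

section

variable {Ω : Type u} [Field Ω] [IsSepClosed Ω] (ξ : Spec (CommRingCat.of Ω) ⟶ X)

theorem gs_map (F : EtDesc.Sh X) {U V : X.Etale} (g : V ⟶ U) (t : Pt ξ V) (σ : EtDesc.sect F U) :
    gs ξ F t (F.obj.map g.op σ) = gs ξ F ((Scheme.pointSmallEtale ξ).fiber.map g t) σ :=
  (Scheme.pointSmallEtale ξ).toPresheafFiber_w_apply g t F.obj σ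

theorem exists_gs (F : EtDesc.Sh X) (a : (stalkSh ξ).obj F) :
    ∃ (U : X.Etale) (t : Pt ξ U) (σ : EtDesc.sect F U), gs ξ F t σ = a := by
  obtain ⟨U, t, σ, h⟩ := (Scheme.pointSmallEtale ξ).toPresheafFiber_jointly_surjective (P := F.obj) a
  exact ⟨U, t, σ, h⟩

theorem gs_natural {F G : EtDesc.Sh X} (φ : F ⟶ G) {U : X.Etale} (t : Pt ξ U) (σ : EtDesc.sect F U) :
    (stalkSh ξ).map φ (gs ξ F t σ) = gs ξ G t (φ.hom.app (op U) σ) :=
  (Scheme.pointSmallEtale ξ).toPresheafFiber_naturality_apply φ.hom U t σ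

/-- Two germs are equal iff the sections agree on a common neighbourhood. -/
theorem exists_of_gs_eq (F : EtDesc.Sh X) {U V : X.Etale} (t : Pt ξ U) (t' : Pt ξ V) (σ : EtDesc.sect F U)
    (τ : EtDesc.sect F V) (e : gs ξ F t σ = gs ξ F t' τ) :
    ∃ (W : X.Etale) (a : W ⟶ U) (b : W ⟶ V) (w : Pt ξ W),
      (Scheme.pointSmallEtale ξ).fiber.map a w = t ∧ (Scheme.pointSmallEtale ξ).fiber.map b w = t' ∧
        F.obj.map a.op σ = F.obj.map b.op τ := by
  obtain ⟨⟨W, w⟩, a, b, -⟩ := IsCofiltered.toIsCofilteredOrEmpty.cone_objs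
    (C := (Scheme.pointSmallEtale ξ).fiber.Elements) ⟨U, t⟩ ⟨V, t'⟩
  have e' : gs ξ F w (F.obj.map a.val.op σ) = gs ξ F w (F.obj.map b.val.op τ) := by
    rw [gs_map, gs_map, show (Scheme.pointSmallEtale ξ).fiber.map a.val w = t from a.property,
      show (Scheme.pointSmallEtale ξ).fiber.map b.val w = t' from b.property]
    exact e
  obtain ⟨W', g, w', h1, h2⟩ := ((Scheme.pointSmallEtale ξ).toPresheafFiber_eq_iff' (P := F.obj) W w _ _).1 e'
  refine ⟨W', g ≫ a.val, g ≫ b.val, w', ?_, ?_, ?_⟩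
  · rw [Functor.map_comp]
    exact (congrArg _ h1).trans a.property
  · rw [Functor.map_comp]
    exact (congrArg _ h1).trans b.property
  · rw [op_comp, Functor.map_comp, op_comp, Functor.map_comp]
    exact h2

end

variable (h : X' ⟶ X)

/-- A pulled back section. -/
noncomputable def pl (F : EtDesc.Sh X) {U : X.Etale} (σ : EtDesc.sect F U) :
    EtDesc.sect ((EtDesc.pullSh h).obj F) ((EtCoh.bc h).obj U) :=
  ((EtDesc.adjSh h).unit.app F).hom.app (op U) σ

theorem pl_map (F : EtDesc.Sh X) {U V : X.Etale} (g : V ⟶ U) (σ : EtDesc.sect F U) :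
    pl h F (F.obj.map g.op σ) = ((EtDesc.pullSh h).obj F).obj.map ((EtCoh.bc h).map g).op (pl h F σ) :=
  NatTrans.naturality_apply ((EtDesc.adjSh h).unit.app F).hom g.op σ

variable {Ω : Type u} [Field Ω] [IsSepClosed Ω] (ξ : Spec (CommRingCat.of Ω) ⟶ X')

theorem stalkPull_gs (F : EtDesc.Sh X) {U : X.Etale} (t : Pt (ξ ≫ h) U) (σ : EtDesc.sect F U) :
    (stalkPullShIso h ξ).inv.app F (gs (ξ ≫ h) F t σ) =
      gs ξ ((EtDesc.pullSh h).obj F) (ptUp h ξ t) (pl h F σ) := by
  let Ψ := (Scheme.pointSmallEtale ξ).comap (EtCoh.bc h) (EtCoh.coverPreserving_bc h)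
  let α : Ψ ⟶ Scheme.pointSmallEtale (ξ ≫ h) := ⟨(fiberIso h ξ).inv⟩
  let c := ((Scheme.pointSmallEtale ξ).sheafFiberComapIso (EtCoh.bc h) (EtCoh.coverPreserving_bc h)
    (Type (u + 1))).hom.app F
  change c (α.presheafFiber.app F.obj ((Scheme.pointSmallEtale (ξ ≫ h)).toPresheafFiber U t F.obj σ)) = _
  refine (congrArg (fun a => c a) (ConcreteCategory.congr_hom
    ((Scheme.pointSmallEtale (ξ ≫ h)).toPresheafFiber_presheafFiberDesc
      (fun V x => Ψ.toPresheafFiber V (α.hom.app V x) F.obj) _ U t) σ)).trans ?_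
  exact ConcreteCategory.congr_hom (comapIso_germ (Scheme.pointSmallEtale ξ) (EtCoh.bc h)
    (EtCoh.coverPreserving_bc h) F U (ptUp h ξ t)) σ

/-- Pulled back sections have equal germs iff the sections do. -/
theorem gs_pl_eq_iff (F : EtDesc.Sh X) {U V : X.Etale} (t : Pt (ξ ≫ h) U) (t' : Pt (ξ ≫ h) V)
    (σ : EtDesc.sect F U) (τ : EtDesc.sect F V) :
    gs ξ ((EtDesc.pullSh h).obj F) (ptUp h ξ t) (pl h F σ) =
        gs ξ ((EtDesc.pullSh h).obj F) (ptUp h ξ t') (pl h F τ) ↔
      gs (ξ ≫ h) F t σ = gs (ξ ≫ h) F t' τ := by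
  rw [← stalkPull_gs, ← stalkPull_gs]
  exact ⟨fun e => ((stalkPullShIso h ξ).app F).toEquiv.symm.injective e, fun e => congrArg _ e⟩

/-- Every germ of a pulled back sheaf comes from a pulled back section. -/
theorem exists_gs_pl (F : EtDesc.Sh X) (a : (stalkSh ξ).obj ((EtDesc.pullSh h).obj F)) :
    ∃ (U : X.Etale) (t : Pt (ξ ≫ h) U) (σ : EtDesc.sect F U),
      gs ξ ((EtDesc.pullSh h).obj F) (ptUp h ξ t) (pl h F σ) = a := by
  obtain ⟨b, hb⟩ := ((stalkPullShIso h ξ).app F).toEquiv.symm.surjective a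
  obtain ⟨U, t, σ, rfl⟩ := exists_gs (ξ ≫ h) F b
  exact ⟨U, t, σ, (stalkPull_gs h ξ F t σ).symm.trans hb⟩

end

section

variable {X : Scheme.{u}}

/-- Sections with the same germs are equal. -/
theorem eq_of_gs (F : EtDesc.Sh X) {U : X.Etale} (σ τ : EtDesc.sect F U)
    (e : ∀ x : U.left, ∃ (K : Type u) (_ : Field K) (_ : IsSepClosed K)
      (η : Spec (CommRingCat.of K) ⟶ X) (t : Pt η U), hom η t default = x ∧ gs η F t σ = gs η F t τ) :
    σ = τ := EtSets93.sect_ext F σ τ fun x => by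
  obtain ⟨K, _, _, η, t, hx, ht⟩ := e x
  obtain ⟨W, g, t', h1, h2⟩ := ((Scheme.pointSmallEtale η).toPresheafFiber_eq_iff' (P := F.obj) U t σ τ).1 ht
  exact ⟨W, g, hom η t' default, (congrArg (fun q => hom η q default) h1).trans hx, h2⟩

/-- Sections of a pulled back sheaf are locally pulled back sections. -/
theorem exists_local_pl {X' : Scheme.{u}} (h : X' ⟶ X) (F : EtDesc.Sh X) {U' : X'.Etale}
    (s : EtDesc.sect ((EtDesc.pullSh h).obj F) U') (x : U'.left) :
    ∃ (W : X'.Etale) (a : W ⟶ U') (w : W.left) (U : X.Etale) (b : W ⟶ (EtCoh.bc h).obj U)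
      (σ : EtDesc.sect F U), a.left w = x ∧
      ((EtDesc.pullSh h).obj F).obj.map a.op s = ((EtDesc.pullSh h).obj F).obj.map b.op (pl h F σ) := by
  obtain ⟨K, _, _, η, t, ht⟩ := point_over U' x
  obtain ⟨U, t', σ, e⟩ := exists_gs_pl h η F (gs η _ t s)
  obtain ⟨W, a, b, w, h1, h2, h3⟩ := exists_of_gs_eq η _ t (ptUp h η t') s (pl h F σ) e.symm
  exact ⟨W, a, hom η w default, U, b, σ, (congrArg (fun q => hom η q default) h1).trans ht, h3⟩

variable {S X' Y' : Scheme.{u}} (f : X ⟶ S) (g : Y' ⟶ S) (f' : X' ⟶ Y') (h : X' ⟶ X) (w : h ≫ f = f' ≫ g)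

/-- The canonical comparison of the two base changes of an etale scheme. -/
noncomputable def bcSquare (V₀ : S.Etale) :
    (EtCoh.bc f').obj ((EtCoh.bc g).obj V₀) ⟶ (EtCoh.bc h).obj ((EtCoh.bc f).obj V₀) :=
  (MorphismProperty.Over.pullbackComp (P := EtCoh.etaleMP) (Q := ⊤) f' g).inv.app V₀ ≫
    (MorphismProperty.Over.pullbackCongr (P := EtCoh.etaleMP) (Q := ⊤) w).inv.app V₀ ≫
    (MorphismProperty.Over.pullbackComp (P := EtCoh.etaleMP) (Q := ⊤) h f).hom.app V₀

/-- Base change of a pulled back section. -/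
theorem baseChange_pl (F : EtDesc.Sh X) (V₀ : S.Etale) (σ : EtDesc.sect ((EtDesc.pushSh f).obj F) V₀) :
    (EtBC.baseChange0Sh f g f' h w F).hom.app (op ((EtCoh.bc g).obj V₀)) (pl g ((EtDesc.pushSh f).obj F) σ) =
      ((EtDesc.pullSh h).obj F).obj.map (bcSquare f g f' h w V₀).op
        (pl h F (U := (EtCoh.bc f).obj V₀) σ) := by
  have hψ : (EtDesc.adjSh g).unit.app _ ≫ (EtDesc.pushSh g).map (EtBC.baseChange0Sh f g f' h w F) =
      (EtDesc.pushSh f).map ((EtDesc.adjSh h).unit.app F) ≫ (EtDesc.pushCompSh f h).hom.app _ ≫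
      (EtBC.pushCongrSh w).hom.app _ ≫ (EtDesc.pushCompSh g f').inv.app _ :=
    ((EtDesc.adjSh g).homEquiv_unit _ _ _).symm.trans (Equiv.apply_symm_apply _ _)
  refine (congrArg (fun v : (EtDesc.pushSh f).obj F ⟶
    (EtDesc.pushSh g).obj ((EtDesc.pushSh f').obj ((EtDesc.pullSh h).obj F)) =>
      v.hom.app (op V₀) σ) hψ).trans ?_
  simp only [bcSquare, op_comp, Functor.map_comp]
  rfl

end

end Groth.Agent.CohProp4
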